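import Cfsg.Agent.Lib.NF.Fix
import Cfsg.Agent.Lib.PGroup.AutGL

/-!
# Nilpotent operator groups without fixed points: there are no reflections
-/

set_option autoImplicit false
set_option linter.unusedSectionVars false

namespace Cfsg.Lib.NF

open Subgroup Cfsg.Lib.BG Cfsg.Lib.Transfer Cfsg.Lib.FH
open scoped commutatorElement

variable {X : Type*} [Group X] [Finite X] {A H N R V Y : Subgroup X} {x y : X} {p : ℕ}

theorem core_num (hp : p.Prime) (h2 : p ≠ 2) : ¬ p ^ 3 ∣ 20160 := by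
  intro h
  have h1 : p ≤ 27 := by
    by_contra h1
    have h3 : 28 ^ 3 ≤ p ^ 3 := Nat.pow_le_pow_left (by omega) 3
    have := Nat.le_of_dvd (by norm_num) h
    omega
  interval_cases p <;> first | (norm_num at hp; done) | (norm_num at h2; done) | norm_num at h

/-- An odd `p`-group acts on an elementary abelian group of order at most 16 as an abelian group. -/
theorem core_ab [hp : Fact p.Prime] (h2 : p ≠ 2) {U : Subgroup X} (hU : IsElementaryAbelian 2 U)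
    (hc : Nat.card U ≤ 16) (hR : IsPGroup p R) (rU : R ≤ 𝐍(U)) (hx : x ∈ R) (hy : y ∈ R) : ⁅x, y⁆ ∈ 𝐂(U) := by
  obtain ⟨f, hf⟩ := PGroup.exists_aut_hom_GL (V := U) (p := 2) (n := 4) (fun a b => hU.1.1.1 a b)
    (fun a => Subtype.ext (hU.2 a a.2)) hc
  set P := (R.subgroupOf 𝐍(U)).map (f.comp U.normalizerMonoidHom) with hP
  have hPp : IsPGroup p P := (hR.comap_subtype (K := 𝐍(U))).map _
  obtain ⟨k, hk⟩ := IsPGroup.iff_card.1 hPp
  have h1 : p ^ k ∣ 20160 := by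
    have h3 := card_subgroup_dvd_card P
    rw [hk, Matrix.card_GL_field, ZMod.card] at h3
    exact h3
  have h3 : k ≤ 2 := by
    by_contra h4
    exact core_num hp.out h2 ((pow_dvd_pow p (by omega)).trans h1)
  have hab : IsMulCommutative P := by
    obtain rfl | rfl | rfl : k = 0 ∨ k = 1 ∨ k = 2 := by omega
    · rw [pow_zero, card_eq_one] at hk
      rw [hk]
      exact abelian_bot
    · exact abelian_of_cyclic (cyclic_of_prime (by rw [hk, pow_one]; exact hp.out))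
    · exact IsPGroup.isMulCommutative_of_card_eq_prime_sq hk
  have h4 : ⁅(⟨x, rU hx⟩ : 𝐍(U)), (⟨y, rU hy⟩ : 𝐍(U))⁆ ∈ U.normalizerMonoidHom.ker := by
    rw [MonoidHom.mem_ker]
    apply hf
    rw [map_one, map_commutatorElement, map_commutatorElement, commutatorElement_eq_one_iff_mul_comm]
    exact le_cent_iff.1 (abelian_cent hab) _ (mem_map_of_mem _ (show _ ∈ R.subgroupOf 𝐍(U) from hx)) _
      (mem_map_of_mem _ (show (⟨y, rU hy⟩ : 𝐍(U)) ∈ R.subgroupOf 𝐍(U) from hy))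
  rw [normalizerMonoidHom_ker] at h4
  exact h4

theorem core_two (hV : IsElementaryAbelian 2 V) : IsPGroup 2 V := fun v => ⟨1, Subtype.ext (hV.2 v v.2)⟩

omit [Finite X] in
theorem core_card {g : X} (hg : g ∈ 𝐍(V)) (x : X) :
    Nat.card ↥⁅V, zpowers (g * x * g⁻¹)⁆ = Nat.card ↥⁅V, zpowers x⁆ := by
  rw [← card_conj g ⁅V, zpowers x⁆, conj_commutator, conj_zpowers, conj_eq_of_norm hg]

/-- Two reflections in a `p`-group commute on `V`. Put `W = ⁅V, ⟨x⟩⁆`, `W' = ⁅V, ⟨y⟩⁆`, `U = W ⊔ W'` (order at most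
16), `D = ⟨x, y⟩ ≤ R`. `D` centralizes `V / U`, so by coprime action an element of `D` that centralizes `U`
centralizes `V`. `D / C_D(U)` is a `p`-subgroup of `Aut U`, whose order divides `|GL₄(2)| = 2⁶·3²·5·7`, so it has
order at most `p²` and is abelian. -/
theorem refl_comm [Fact p.Prime] (hp : p ≠ 2) (hV : IsElementaryAbelian 2 V) (hR : IsPGroup p R) (rV : R ≤ 𝐍(V))
    (hx : x ∈ R) (hy : y ∈ R) (cx : Nat.card ↥⁅V, zpowers x⁆ ≤ 4) (cy : Nat.card ↥⁅V, zpowers y⁆ ≤ 4) :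
    ⁅x, y⁆ ∈ 𝐂(V) := by
  have xV : zpowers x ≤ 𝐍(V) := zpowers_le.2 (rV hx)
  have yV : zpowers y ≤ 𝐍(V) := zpowers_le.2 (rV hy)
  set U := ⁅V, zpowers x⁆ ⊔ ⁅V, zpowers y⁆ with hU
  have uV : U ≤ V := sup_le (comm_le_left xV) (comm_le_left yV)
  have hUe : IsElementaryAbelian 2 U := ⟨abelian_of_le hV.1 uV, fun a ha => hV.2 a (uV ha)⟩
  have cU : Nat.card U ≤ 16 :=
    (Nat.le_of_dvd (Nat.mul_pos Nat.card_pos Nat.card_pos) (Coprime.card_sup_dvd
      ((comm_le_left yV).trans (abelian_norm hV.1 (comm_le_left xV))))).trans (Nat.mul_le_mul cx cy)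
  have xU : zpowers x ≤ 𝐍(U) := norm_of_comm_le_of_le le_sup_left uV
  have yU : zpowers y ≤ 𝐍(U) := norm_of_comm_le_of_le le_sup_right uV
  have vU : V ≤ 𝐍(U) := abelian_norm hV.1 uV
  have dR : zpowers x ⊔ zpowers y ≤ R := sup_le (zpowers_le.2 hx) (zpowers_le.2 hy)
  have hxD : x ∈ zpowers x ⊔ zpowers y := mem_sup_left (mem_zpowers x)
  have hyD : y ∈ zpowers x ⊔ zpowers y := mem_sup_right (mem_zpowers y)
  have h1 : ⁅zpowers x ⊔ zpowers y, V⁆ ≤ U := by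
    rw [← quo_le_cent_iff (sup_le xU yU) vU, quo_sup xU yU, sup_le_iff, quo_le_cent_iff xU vU,
      quo_le_cent_iff yU vU, commutator_comm _ V, commutator_comm _ V]
    exact ⟨le_sup_left, le_sup_right⟩
  have h2 : ⁅x, y⁆ ∈ 𝐂(U) := core_ab hp hUe cU (pgroup_of_le hR dR) (sup_le xU yU) hxD hyD
  have h3 : zpowers ⁅x, y⁆ ≤ zpowers x ⊔ zpowers y :=
    zpowers_le.2 (mul_mem (mul_mem (mul_mem hxD hyD) (inv_mem hxD)) (inv_mem hyD))
  exact zpowers_le.1 (stable_factor_cent ((commutator_comm _ _).le.trans ((commutator_mono h3 le_rfl).trans h1))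
    (zpowers_le.2 h2) (coprime_pgroups (pgroup_of_le hR (h3.trans dR)) (core_two hUe) hp))

/-- An element of odd order without fixed points on a group of order at most four is transitive on `W ∖ 1`. -/
theorem core_trans {W : Subgroup X} (ox : Odd (orderOf x)) (xW : x ∈ 𝐍(W)) (h0 : W ⊓ 𝐂(zpowers x) = ⊥)
    (cW : Nat.card W ≤ 4) {w w' : X} (hw : w ∈ W) (hw' : w' ∈ W) (h1 : w ≠ 1) (h1' : w' ≠ 1) :
    ∃ k ∈ zpowers x, k * w * k⁻¹ = w' := by
  classical
  have hfix : ∀ u ∈ W, x * u * x⁻¹ = u → u = 1 := by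
    intro u hu e
    have : u ∈ W ⊓ 𝐂(zpowers x) := ⟨hu, by
      rw [cent_zpowers]
      exact mem_cent1.2 (mul_inv_eq_iff_eq_mul.1 e).symm⟩
    rwa [h0, mem_bot] at this
  have hne : ∀ u : X, u ≠ 1 → x * u * x⁻¹ ≠ 1 := fun u hu e => hu (by simpa using e)
  have m1 := conj_mem_of_norm xW hw
  have m2 := conj_mem_of_norm xW m1
  have n1 : x * w * x⁻¹ ≠ w := fun e => h1 (hfix w hw e)
  have n2 : x * (x * w * x⁻¹) * x⁻¹ ≠ x * w * x⁻¹ := fun e => hne w h1 (hfix _ m1 e)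
  have n3 : x * (x * w * x⁻¹) * x⁻¹ ≠ w := by
    intro e
    apply n1
    have h2 : x ^ 2 ∈ 𝐂[w] := by
      refine mem_cent1.2 ?_
      calc x ^ 2 * w = x * (x * w * x⁻¹) * x⁻¹ * x ^ 2 := by simp [pow_two, mul_assoc]
        _ = w * x ^ 2 := by rw [e]
    obtain ⟨m, hm⟩ := ox
    have h3 : x = (x ^ 2) ^ (m + 1) := by
      rw [← pow_mul, show 2 * (m + 1) = orderOf x + 1 by omega, pow_succ, pow_orderOf_eq_one, one_mul]
    have h4 : x ∈ 𝐂[w] := h3 ▸ pow_mem h2 _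
    rw [mem_cent1.1 h4, mul_inv_cancel_right]
  by_contra hc
  push Not at hc
  have c0 : w ≠ w' := by simpa using hc 1 (one_mem _)
  have c1 : x * w * x⁻¹ ≠ w' := hc x (mem_zpowers x)
  have c2 : x * (x * w * x⁻¹) * x⁻¹ ≠ w' := by
    have := hc (x * x) (mul_mem (mem_zpowers x) (mem_zpowers x))
    rwa [show x * x * w * (x * x)⁻¹ = x * (x * w * x⁻¹) * x⁻¹ by group] at this
  have d1 := hne w h1
  have d2 := hne _ d1
  generalize x * (x * w * x⁻¹) * x⁻¹ = w2 at *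
  generalize x * w * x⁻¹ = w1 at *
  have h5 : ({1, w, w1, w2, w'} : Finset X).card = 5 := by
    rw [Finset.card_insert_of_notMem (by simp [h1.symm, d1.symm, d2.symm, h1'.symm]),
      Finset.card_insert_of_notMem (by simp [n1.symm, n3.symm, c0]),
      Finset.card_insert_of_notMem (by simp [n2.symm, c1]), Finset.card_pair c2]
  have h6 : (({1, w, w1, w2, w'} : Finset X) : Set X).ncard ≤ (W : Set X).ncard := by
    refine Set.ncard_le_ncard (fun a ha => ?_)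
    simp only [Finset.coe_insert, Finset.coe_singleton, Set.mem_insert_iff, Set.mem_singleton_iff] at ha
    rcases ha with rfl | rfl | rfl | rfl | rfl
    exacts [one_mem _, hw, m1, m2, hw']
  rw [Set.ncard_coe_finset, h5] at h6
  exact absurd (h6.trans cW) (by norm_num)

/-- `tr` with `Z = V`, `K = ⟨x⟩`. `V = W × C_V(x)` with `W = ⁅V, ⟨x⟩⁆`, `C_W(x) = 1`, `|W| ≤ 4`; so `⟨x⟩` is transitive
on `W ∖ 1` (for `1 ≠ w ∈ W` the elements `w, x w x⁻¹, w · x w x⁻¹` are the three involutions). The conjugates of `x`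
under `A` normalize `C_V(x)` by `refl_comm`. So `⁅V, x, x⁆ = 1`, and `⁅V, x⁆ = 1` by coprime action. -/
theorem core0 [Fact p.Prime] (hp : p ≠ 2) (h : GP N A) (hV : IsElementaryAbelian 2 V) (vN : V ≤ N) (rN : R ≤ N)
    (hR : IsPGroup p R) (rV : R ≤ 𝐍(V)) (aV : A ≤ 𝐍(V)) (aR : A ≤ 𝐍(R)) (hx : x ∈ R)
    (cx : Nat.card ↥⁅V, zpowers x⁆ ≤ 4) : x ∈ 𝐂(V) := by
  have xV : zpowers x ≤ 𝐍(V) := zpowers_le.2 (rV hx)
  have xp : IsPGroup p (zpowers x) := pgroup_of_le hR (zpowers_le.2 hx)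
  have cop : (Nat.card (zpowers x)).Coprime (Nat.card V) := coprime_pgroups xp (core_two hV) hp
  have dp := coprime_abelian_cent_dprod xV cop hV.1
  have ox : Odd (orderOf x) := by
    rw [← Nat.card_zpowers]
    obtain ⟨k, hk⟩ := IsPGroup.iff_card.1 xp
    rw [hk]
    exact ((Fact.out : p.Prime).odd_of_ne_two hp).pow
  have h0 : ⁅V, zpowers x⁆ ⊓ 𝐂(zpowers x) = ⊥ :=
    eq_bot_mono dp.inf (le_inf inf_le_left (inf_le_inf_right _ (comm_le_left xV)))
  have key := tr h vN ((zpowers_le.2 hx).trans rN) hV.1 aV xV (by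
    intro a ha
    rw [conj_zpowers, zpowers_le]
    have hy : a * x * a⁻¹ ∈ R := conj_mem_of_norm (aR ha) hx
    have h1 := refl_comm hp hV hR rV hx hy cx (by rw [core_card (aV ha)]; exact cx)
    generalize a * x * a⁻¹ = y at hy h1
    refine mem_normalizer_of_conj_le (conj_le_iff.2 fun v hv => ⟨conj_mem_of_norm (rV hy) hv.1, ?_⟩)
    have h2 : v * x = x * v := mem_cent1.1 (cent_zpowers x ▸ hv.2)
    have h3 := mem_cent.1 h1 _ (conj_mem_of_norm (rV hy) hv.1)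
    rw [cent_zpowers]
    refine mem_cent1.2 ?_
    symm
    calc x * (y * v * y⁻¹) = ⁅x, y⁆ * (y * (x * v) * x⁻¹ * y⁻¹) * ⁅x, y⁆⁻¹ * x := by
          rw [commutatorElement_def]
          group
      _ = ⁅x, y⁆ * (y * (v * x) * x⁻¹ * y⁻¹) * ⁅x, y⁆⁻¹ * x := by rw [h2]
      _ = ⁅x, y⁆ * (y * v * y⁻¹) * ⁅x, y⁆⁻¹ * x := by rw [show y * (v * x) * x⁻¹ * y⁻¹ = y * v * y⁻¹ by group]
      _ = y * v * y⁻¹ * x := by rw [← h3, mul_inv_cancel_right]) (by
    intro y hy z hz hy' hz'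
    obtain ⟨w, hw, c, hc, rfl⟩ := dp.mem hy
    obtain ⟨w', hw', c', hc', rfl⟩ := dp.mem hz
    obtain ⟨k, hk, e⟩ := core_trans ox (right_norm_comm V _ (mem_zpowers x)) h0 cx hw hw'
      (by rintro rfl; exact hy' (by simpa using hc.2)) (by rintro rfl; exact hz' (by simpa using hc'.2))
    refine ⟨k, hk, ?_⟩
    have h1 : k * c = c * k := mem_cent.1 hc.2 k hk
    have h2 : (k * (w * c) * k⁻¹)⁻¹ * (w' * c') = c⁻¹ * c' := by
      rw [show k * (w * c) * k⁻¹ = (k * w * k⁻¹) * (k * c) * k⁻¹ by group, e, h1]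
      group
    rw [h2]
    exact mul_mem (inv_mem hc.2) hc'.2)
  have h1 : ⁅V, zpowers x⁆ ≤ 𝐂(zpowers x) := commutator_le.2 fun y hy k hk => key k hk y hy
  exact zpowers_le.1 (comm_eq_bot_iff'.1 (eq_bot_mono h0 (le_inf le_rfl h1)))

/-- An element of odd order is a product of powers of it that are `p`-elements; each is conjugate in `H` into the
invariant Sylow `p`-subgroup `R` of `H` (`GP.syl`), and `core0` applies. -/
theorem core1 (h : GP H A) (hV : IsElementaryAbelian 2 V) (vH : Nml V H) (aV : A ≤ 𝐍(V)) (hx : x ∈ H)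
    (ox : Odd (orderOf x)) (cx : Nat.card ↥⁅V, zpowers x⁆ ≤ 4) : x ∈ 𝐂(V) := by
  refine zpowers_le.1 (Syl.le_of_forall fun q hq hd => ?_)
  have := Fact.mk hq
  have q2 : q ≠ 2 := by
    rintro rfl
    rw [Nat.card_zpowers] at hd
    exact (Nat.not_even_iff_odd.2 ox) (even_iff_two_dvd.2 hd)
  obtain ⟨P, hP⟩ := Syl.exists (p := q) (zpowers x)
  obtain ⟨R, hR, aR⟩ := h.syl q
  obtain ⟨g, hg, e⟩ := hR.exists_conj_le hP.pgroup (hP.le.trans (zpowers_le.2 hx))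
  refine ⟨P, hP, fun y hy => ?_⟩
  have h1 : g * y * g⁻¹ ∈ 𝐂(V) := by
    refine core0 q2 h hV vH.le hR.le hR.pgroup (hR.le.trans vH.norm) aV aR (conj_le_iff.1 e y hy) ?_
    rw [core_card (vH.norm hg)]
    exact (card_le_of_le (commutator_mono le_rfl (zpowers_le.2 (hP.le hy)))).trans cx
  have h2 := conj_mem_of_norm' (norm_cent vH.norm hg) h1
  rwa [show g⁻¹ * (g * y * g⁻¹) * g = y by group] at h2

/-- `core1` in the quotient by `Y` (`GP.quo`). -/
theorem core (h : GP H A) (vH : Nml V H) (yH : Nml Y H) (hY : Y ≤ V) (aV : A ≤ 𝐍(V)) (aY : A ≤ 𝐍(Y))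
    (sq : ∀ v ∈ V, v ^ 2 ∈ Y) (hx : x ∈ H) (ox : Odd (orderOf x))
    (cx : Y.relIndex ⁅V, zpowers x⁆ ≤ 4) : ⁅V, zpowers x⁆ ≤ Y := by
  have xY : x ∈ 𝐍(Y) := yH.norm hx
  have vY : V ≤ 𝐍(Y) := vH.le.trans yH.norm
  have e : quo (zpowers x) Y = zpowers (qhom Y ⟨x, xY⟩) := by
    rw [quo_def, ← MonoidHom.map_zpowers]
    congr 1
    apply map_injective (subtype_injective 𝐍(Y))
    rw [subOf_map (zpowers_le.2 xY), MonoidHom.map_zpowers]
    rfl
  have s2 : ∀ a ∈ quo V Y, a ^ 2 = 1 := by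
    intro a ha
    obtain ⟨v, hv, rfl⟩ := mem_quo.1 ha
    rw [← map_pow, ← MonoidHom.mem_ker, qhom_ker]
    exact sq v hv
  have hV : IsElementaryAbelian 2 (quo V Y) := by
    refine ⟨abelian_iff.2 (le_cent_iff.2 fun a ha b hb => ?_), s2⟩
    have i : ∀ a ∈ quo V Y, a⁻¹ = a := fun a ha => inv_eq_of_mul_eq_one_right (by rw [← pow_two, s2 a ha])
    rw [← i _ (mul_mem ha hb), mul_inv_rev, i a ha, i b hb]
  have h1 := core1 (x := qhom Y ⟨x, xY⟩) (h.quo yH aY) hV (vH.quo Y) (quo_norm aV Y) (mem_quo.2 ⟨_, hx, rfl⟩)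
    (ox.of_dvd_nat ((orderOf_map_dvd _ _).trans (orderOf_coe (⟨x, xY⟩ : 𝐍(Y))).symm.dvd)) (by
      rw [← e, ← quo_comm vY (zpowers_le.2 xY), card_quo (comm_le_of_le vY (zpowers_le.2 xY))]
      exact cx)
  rw [commutator_comm, ← quo_le_cent_iff (zpowers_le.2 xY) vY, e]
  exact zpowers_le.2 h1

end Cfsg.Lib.NF
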