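import Cfsg.Agent.Lib.NF.Dih

/-!
# Modules of solvable groups without reflections
-/

set_option autoImplicit false
set_option linter.unusedSectionVars false

namespace Cfsg.Lib.NF

open Subgroup Cfsg.Lib.BG Cfsg.Lib.Transfer Cfsg.Lib.S4F Cfsg.Lib.Comp
open scoped commutatorElement

variable {X : Type*} [Group X] [Finite X] {E H V : Subgroup X}

/-- Two commuting automorphisms of order 3 of an elementary abelian 2-group: every element is a product of fixed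
points of `S`, `T`, `S T`, `S T²`. -/
theorem rf_pure {M : Type*} [CommGroup M] (h2 : ∀ m : M, m * m = 1) (S T : M →* M)
    (c : ∀ m, T (S m) = S (T m)) (s3 : ∀ m, S (S (S m)) = m) (t3 : ∀ m, T (T (T m)) = m)
    (h1 : ∀ m, T m = m → S m = m) (h3 : ∀ m, S (T m) = m → S m = m)
    (h4 : ∀ m, S (T (T m)) = m → S m = m) (m : M) : S m = m := by
  have h2' : ∀ a b : M, a * (a * b) = b := fun a b => by rw [← mul_assoc, h2, one_mul]
  have e1 : S (m * S m * S (S m)) = m * S m * S (S m) := by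
    simp only [map_mul, s3, mul_comm, mul_left_comm]
  have e2 := h1 (m * T m * T (T m)) (by simp only [map_mul, t3, mul_comm, mul_left_comm])
  have e3 := h3 (m * S (T m) * S (S (T (T m)))) (by
    simp only [map_mul, c, s3, t3, mul_comm, mul_left_comm])
  have e4 := h4 (m * S (T (T m)) * S (S (T m))) (by
    simp only [map_mul, c, s3, t3, mul_comm, mul_left_comm])
  have e5 : m = (m * S m * S (S m)) * (m * S (T m) * S (S (T (T m)))) * (m * S (T (T m)) * S (S (T m))) *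
      (S (m * T m * T (T m)) * S (S (m * T m * T (T m)))) := by
    simp only [map_mul, mul_assoc, mul_comm, mul_left_comm, h2, h2', mul_one]
  rw [e2, e2, h2, mul_one] at e5
  rw [e5, map_mul, map_mul, e1, e3, e4]

theorem rf_gen {x y : X} (hV : IsElementaryAbelian 2 V) (xV : x ∈ 𝐍(V)) (yV : y ∈ 𝐍(V)) (c : x * y = y * x)
    (x3 : x ^ 3 = 1) (y3 : y ^ 3 = 1) (h1 : V ⊓ 𝐂[y] ≤ 𝐂[x]) (h3 : V ⊓ 𝐂[x * y] ≤ 𝐂[x])
    (h4 : V ⊓ 𝐂[x * y ^ 2] ≤ 𝐂[x]) : V ≤ 𝐂[x] := by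
  letI : CommGroup V := { (inferInstance : Group V) with mul_comm := hV.1.is_comm.comm }
  let φ : ∀ g ∈ 𝐍(V), V →* V := fun g hg =>
    { toFun := fun v => ⟨g * v * g⁻¹, conj_mem_of_norm hg v.2⟩
      map_one' := Subtype.ext (by simp)
      map_mul' := fun u v => Subtype.ext (by simp [mul_assoc]) }
  have k : ∀ {g : X} {v : V}, g * v * g⁻¹ = v → (v : X) ∈ V ⊓ 𝐂[g] := fun e =>
    ⟨Subtype.prop _, mem_cent1.2 (mul_inv_eq_iff_eq_mul.1 e).symm⟩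
  have k' : ∀ {v : V}, (v : X) ∈ 𝐂[x] → φ x xV v = v := fun {v} e =>
    Subtype.ext (show x * v * x⁻¹ = v by rw [← mem_cent1.1 e, mul_inv_cancel_right])
  have k3 : ∀ g hg, g ^ 3 = 1 → ∀ v : V, φ g hg (φ g hg (φ g hg v)) = v := fun g hg e v => Subtype.ext (by
    show g * (g * (g * v * g⁻¹) * g⁻¹) * g⁻¹ = v
    rw [show g * (g * (g * v * g⁻¹) * g⁻¹) * g⁻¹ = g * (g * g) * v * (g * (g * g))⁻¹ by group, ← pow_three, e]
    simp)
  intro v hv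
  have := rf_pure (M := V) (fun m => Subtype.ext (by simpa [sq] using hV.2 m m.2)) (φ x xV) (φ y yV)
    (fun m => Subtype.ext (by
      show y * (x * m * x⁻¹) * y⁻¹ = x * (y * m * y⁻¹) * x⁻¹
      rw [show y * (x * m * x⁻¹) * y⁻¹ = (y * x) * m * (y * x)⁻¹ by group, ← c]; group))
    (k3 x xV x3) (k3 y yV y3) (fun m e => k' (h1 (k (congrArg Subtype.val e))))
    (fun m e => k' (h3 (k (Eq.trans (show _ = x * (y * m * y⁻¹) * x⁻¹ by group) (congrArg Subtype.val e)))))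
    (fun m e => k' (h4 (k (Eq.trans (show _ = x * (y * (y * m * y⁻¹) * y⁻¹) * x⁻¹ by rw [sq]; group)
      (congrArg Subtype.val e))))) ⟨v, hv⟩
  exact (k (congrArg Subtype.val this)).2

theorem rf_le {A B : Subgroup X} (h : V ⊓ A ≤ B) (h' : A.relIndex V ≤ B.relIndex V) : V ⊓ B ≤ A := by
  have e : V ⊓ A = V ⊓ B := eq_of_le_of_card_le (le_inf inf_le_left h) (Nat.le_of_mul_le_mul_left
    (by rw [rel_mul B V, ← rel_mul A V]; exact Nat.mul_le_mul_right _ h') (rel_pos B V))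
  exact e ▸ inf_le_right

/-- The faithful module without reflections. -/
structure RS (H V : Subgroup X) : Prop where
  hV : IsElementaryAbelian 2 V
  hH : H ≤ 𝐍(V)
  hf : H ⊓ 𝐂(V) = ⊥
  nr : ∀ x ∈ H, Odd (orderOf x) → Nat.card ↥⁅V, zpowers x⁆ ≤ 4 → x ∈ 𝐂(V)

/-- The involution `a` inverts the element `x` of odd prime order `p`. -/
structure RI (H : Subgroup X) (p : ℕ) (a x : X) : Prop where
  pr : p.Prime
  p2 : p ≠ 2
  aH : a ∈ H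
  xH : x ∈ H
  a2 : a ^ 2 = 1
  x1 : x ≠ 1
  xp : x ^ p = 1
  inv : a * x * a⁻¹ = x⁻¹

variable {p q : ℕ} {a b x y : X} {M T : Subgroup X}

theorem RI.ord (h : RI H p a x) : orderOf x = p := haveI := Fact.mk h.pr; orderOf_eq_prime h.xp h.x1

theorem RI.pg (h : RI H p a x) : IsPGroup p (zpowers x) :=
  IsPGroup.of_card (n := 1) (by rw [Nat.card_zpowers, h.ord, pow_one])

theorem RI.ne (h : RI H p a x) : x⁻¹ ≠ x := fun e => h.p2 (by
  rw [← h.ord]; exact orderOf_eq_prime (by rw [sq]; nth_rewrite 1 [← e]; simp) h.x1)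

theorem RI.nc (h : RI H p a x) : a ∉ 𝐂[x] := fun e =>
  h.ne (by rw [← h.inv, mem_cent1.1 e, mul_inv_cancel_right])

theorem RS.dp (s : RS H V) (h : RI H p a x) : DP ⁅V, zpowers x⁆ (V ⊓ 𝐂[x]) V := by
  haveI := Fact.mk h.pr
  rw [← cent_zpowers]
  exact coprime_abelian_cent_dprod (zpowers_le.2 (s.hH h.xH))
    (coprime_pgroups h.pg (PGroup.elemAb_isPGroup s.hV) h.p2) s.hV.1

theorem RS.nc (s : RS H V) (h : RI H p a x) : x ∉ 𝐂(V) := fun e => h.x1 (mem_bot.1 (s.hf ▸ ⟨h.xH, e⟩))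

theorem RS.big (s : RS H V) (h : RI H p a x) :
    ∃ j, 2 ≤ j ∧ 𝐂[x].relIndex V = 4 ^ j ∧ 2 ^ j ≤ 𝐂[a].relIndex V := by
  haveI := Fact.mk h.pr
  obtain ⟨j, h1, -, h2, -⟩ := count_elem h.p2 s.hV (s.hH h.aH) (s.hH h.xH) (h.a2 ▸ one_mem _)
    (by rw [h.inv, inv_mul_cancel]; exact one_mem _) h.pg
  refine ⟨j, ?_, h1, h2⟩
  by_contra hj
  refine s.nc h (s.nr x h.xH (h.ord ▸ h.pr.odd_of_ne_two h.p2) ?_)
  rw [Nat.eq_of_mul_eq_mul_right Nat.card_pos ((s.dp h).card.trans (rel_mul 𝐂[x] V).symm), h1]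
  exact (Nat.pow_le_pow_right (by norm_num) (by omega : j ≤ 1)).trans (by norm_num)

theorem RS.big4 (s : RS H V) (h : RI H p a x) : 4 ≤ 𝐂[a].relIndex V := by
  obtain ⟨j, h1, -, h2⟩ := s.big h
  exact le_trans (Nat.pow_le_pow_right (n := 2) (by norm_num) h1) h2

theorem RS.big16 (s : RS H V) (h : RI H p a x) : 16 ≤ 𝐂[x].relIndex V := by
  obtain ⟨j, h1, h2, -⟩ := s.big h
  exact h2 ▸ Nat.pow_le_pow_right (n := 4) (by norm_num) h1

/-- `x` acts nontrivially on the fixed points of a 2-group `T` centralizing `x`. -/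
theorem RS.step (s : RS H V) (h : RI H p a x) (hT : IsPGroup 2 T) (tH : T ≤ H) (tx : T ≤ 𝐂[x])
    (ta : T ≤ 𝐂[a]) : ∃ k, 1 ≤ k ∧ 𝐂[x].relIndex (V ⊓ 𝐂(T)) = 4 ^ k ∧ 4 ^ k ≡ 1 [MOD p] ∧
      2 ^ k ≤ 𝐂[a].relIndex (V ⊓ 𝐂(T)) := by
  haveI := Fact.mk h.pr
  have n : ∀ g ∈ H, T ≤ 𝐂[g] → g ∈ 𝐍(V ⊓ 𝐂(T)) := fun g hg e => zpowers_le.1 (norm_inf
    (zpowers_le.2 (s.hH hg)) (norm_cent (norm_of_cent (zpowers_le.2 (le_cent1_iff.1 e)))))
  obtain ⟨k, h1, h2, h3, -⟩ := count_elem h.p2 (PGroup.elemAb_of_le s.hV (inf_le_left (b := 𝐂(T))))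
    (n a h.aH ta) (n x h.xH tx) (h.a2 ▸ one_mem _) (by rw [h.inv, inv_mul_cancel]; exact one_mem _) h.pg
  refine ⟨k, Nat.pos_of_ne_zero fun e => ?_, h1, h2, h3⟩
  rw [e, pow_zero, relIndex_eq_one] at h1
  have d := s.dp h
  have tW : T ≤ 𝐍(⁅V, zpowers x⁆) :=
    norm_comm (tH.trans s.hH) (norm_of_cent (by rwa [cent_zpowers]))
  refine nil_meet_center (pgroup_nil (pgroup_sup ((PGroup.elemAb_isPGroup s.hV).to_le d.left_le) hT tW))
    le_sup_left (sup_le_norm_left tW) (fun e => s.nc h (zpowers_le.1 (comm_eq_bot_iff'.1 e))) (eq_bot_mono d.inf ?_)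
  exact fun w hw => ⟨hw.1, d.left_le hw.1, h1 ⟨d.left_le hw.1, cent_anti le_sup_right hw.2⟩⟩

theorem RS.half (s : RS H V) (h : RI H p a x) (h' : RI H q b y) (bx : b ∈ 𝐂[x]) (ba : b ∈ 𝐂[a])
    (yx : y ∈ 𝐂[x]) (i : (𝐂[a] ⊓ 𝐂[b]).relIndex V ≤ 8) :
    x ^ 3 = 1 ∧ 𝐂[y].relIndex V ≤ 16 ∧ V ⊓ 𝐂[x] ≤ 𝐂[y] := by
  haveI := Fact.mk h'.pr
  obtain ⟨k, k1, k2, k3, k4⟩ := s.step h (PGroup.elemAb_isPGroup (PGroup.elemAb_zpowers h'.a2))
    (zpowers_le.2 h'.aH) (zpowers_le.2 bx) (zpowers_le.2 ba)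
  obtain ⟨j, j1, j2, j3⟩ := s.big h'
  have b4 := s.big4 h'
  rw [cent_zpowers, inf_comm] at k2 k4
  rw [← relIndex_inf_mul_relIndex] at i
  have k5 : 2 ^ k * 𝐂[b].relIndex V ≤ 8 := (Nat.mul_le_mul_right _ k4).trans i
  have k6 : 2 ^ 1 ≤ 2 ^ k := Nat.pow_le_pow_right (by norm_num) k1
  have b5 : 𝐂[b].relIndex V = 4 := by nlinarith
  obtain rfl : k = 1 := le_antisymm ((Nat.pow_le_pow_iff_right (a := 2) (by norm_num)).1 (by
    rw [b5] at k5; omega)) k1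
  obtain rfl : j = 2 := le_antisymm ((Nat.pow_le_pow_iff_right (a := 2) (by norm_num)).1 (by omega)) j1
  obtain rfl : p = 3 := (Nat.prime_dvd_prime_iff_eq h.pr Nat.prime_three).1
    ((Nat.modEq_iff_dvd' (by norm_num)).1 k3.symm)
  have c1 : V ⊓ 𝐂[x] ≤ 𝐂[b] := (rf_le (A := 𝐂[x] ⊓ 𝐂[b]) (inf_le_right.trans inf_le_left) (by
    rw [← relIndex_inf_mul_relIndex, k2, b5]; exact s.big16 h)).trans inf_le_right
  refine ⟨h.xp, j2.le, le_cent1_iff.2 ?_⟩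
  have c2 : y ∈ 𝐍(𝐂(V ⊓ 𝐂[x])) := zpowers_le.1 (norm_cent (norm_inf (zpowers_le.2 (s.hH h'.xH))
    (norm_cent1 (zpowers_le.2 yx))))
  have c3 := mul_mem (conj_mem_of_norm c2 (inv_mem (le_cent1_iff.1 c1))) (le_cent1_iff.1 c1)
  rw [← h'.inv, show y * b⁻¹ * (b * y * b⁻¹) * b = y ^ 2 by rw [sq]; group] at c3
  exact zpowers_le.2 c3 (mem_zpowers_sq h'.p2 h'.pg)

theorem RS.four (s : RS H V) (h : RI H p a x) (h' : RI H q b y) (bx : b ∈ 𝐂[x]) (ay : a ∈ 𝐂[y])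
    (ba : b ∈ 𝐂[a]) (yx : y ∈ 𝐂[x]) (i : (𝐂[a] ⊓ 𝐂[b]).relIndex V ≤ 8) : False := by
  obtain ⟨x3, -, c1⟩ := s.half h h' bx ba yx i
  obtain ⟨y3, i1, c2⟩ := s.half h' h ay (mem_cent1_symm ba) (mem_cent1_symm yx) (by rwa [inf_comm])
  have k : ∀ n : ℕ, V ⊓ 𝐂[x * y ^ n] ≤ 𝐂[x] := fun n => by
    have c : Commute x (y ^ n) := Commute.pow_right (mem_cent1.1 yx).symm n
    refine rf_le (fun v hv => mem_cent1.2 (Commute.mul_right (mem_cent1.1 hv.2)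
      (Commute.pow_right (mem_cent1.1 (c1 hv)) n))) (i1.trans (s.big16 (p := 3) (a := a * b) ⟨Nat.prime_three,
        by norm_num, mul_mem h.aH h'.aH, mul_mem h.xH (pow_mem h'.xH n), ?_, fun e => h.nc ?_, ?_, ?_⟩))
    · rw [Commute.mul_pow (mem_cent1.1 ba).symm, h.a2, h'.a2, one_mul]
    · rw [eq_inv_of_mul_eq_one_left e, cent1_inv]; exact cent1_le_cent1_pow y n ay
    · rw [c.mul_pow, x3, ← pow_mul, mul_comm, pow_mul, y3, one_pow, one_mul]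
    · rw [show a * b * (x * y ^ n) * (a * b)⁻¹ = (a * (b * x * b⁻¹) * a⁻¹) * (a * (b * y ^ n * b⁻¹) * a⁻¹) by group,
        mem_cent1.1 bx, mul_inv_cancel_right, h.inv, ← conj_pow, h'.inv, inv_pow,
        mem_cent1.1 ((cent1_inv (y ^ n)).ge (cent1_le_cent1_pow y n ay)), mul_inv_cancel_right, ← mul_inv_rev, c.eq]
  exact s.nc h (le_cent1_iff.1 (rf_gen s.hV (s.hH h.xH) (s.hH h'.xH) (mem_cent1.1 yx).symm x3 y3 c2
    (by simpa using k 1) (k 2)))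

theorem rf_prime (ho : PiGrp {2}ᶜ M) (mH : M ≤ H) (aH : a ∈ H) (a2 : a ^ 2 = 1) (xM : x ∈ M) (x1 : x ≠ 1)
    (inv : a * x * a⁻¹ = x⁻¹) : ∃ p k, RI H p a (x ^ k) := by
  obtain ⟨p, hp, k, hk⟩ := Nat.exists_prime_and_dvd (mt orderOf_eq_one_iff.1 x1)
  have k0 : k ≠ 0 := fun e => (orderOf_pos x).ne' (by rw [hk, e, mul_zero])
  refine ⟨p, k, hp, ho.elt xM p hp ⟨k, hk⟩, aH, pow_mem (mH xM) k, a2, pow_ne_one_of_lt_orderOf k0 ?_,
    by rw [← pow_mul, mul_comm, ← hk, pow_orderOf_eq_one], by rw [← conj_pow, inv, inv_pow]⟩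
  rw [hk]; exact lt_mul_left (Nat.pos_of_ne_zero k0) hp.one_lt

theorem RS.main (s : RS H V) (hM : IsMulCommutative M) (ho : PiGrp {2}ᶜ M) (mH : M ≤ H) (n : ℕ) :
    ∀ E : Subgroup X, Nat.card E = n → IsElementaryAbelian 2 E → E ≤ H → E ≤ 𝐍(M) → E ⊓ 𝐂(M) = ⊥ → E ≠ ⊥ →
      𝐂(E).relIndex V ≤ 2 * Nat.card E → Nat.card E = 2 ∧ 𝐂(E).relIndex V = 4 := by
  induction n using Nat.strong_induction_on with
  | _ n ih =>
  intro E hn hE eH eM ef e0 h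
  obtain ⟨a, aE, a1⟩ := exists_ne_one e0
  obtain ⟨v, vM, v1, v2, v3⟩ := exists_eig_inv hE hM eM aE fun e => a1 (mem_bot.1 (ef ▸ ⟨aE, le_cent1_iff.1 e⟩))
  obtain ⟨p, k, r⟩ := rf_prime ho mH (eH aE) (hE.2 a aE) vM v1 v3
  obtain ⟨g1, g2⟩ := card_inf_cent_mul le_rfl (v2.pow k) aE r.a2 r.inv r.ne hE.1
  by_cases e1 : E ⊓ 𝐂[v ^ k] = ⊥
  · rw [e1, card_bot, mul_one] at g2
    exact ⟨g2.symm, le_antisymm (by rwa [← g2] at h)
      ((s.big4 r).trans (rel_left (inf_le_right.trans (cent_le_cent1 aE))))⟩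
  exfalso
  obtain ⟨j, j1, -, -, j2⟩ := s.step r ((PGroup.elemAb_isPGroup hE).to_le (inf_le_left (b := 𝐂[v ^ k])))
    (inf_le_left.trans eH) inf_le_right (inf_le_left.trans (le_cent1_iff.2 (abelian_cent hE.1 aE)))
  have j3 : 2 * 𝐂(E ⊓ 𝐂[v ^ k]).relIndex V ≤ 𝐂(E).relIndex V := by
    refine le_trans (Nat.mul_le_mul_right _ ((Nat.pow_le_pow_right (n := 2) (by norm_num) j1).trans j2)) ?_
    rw [inf_comm V, relIndex_inf_mul_relIndex]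
    exact rel_left (inf_le_right.trans (le_inf (cent_le_cent1 aE) (cent_anti inf_le_left)))
  have p0 : 0 < Nat.card ↥(E ⊓ 𝐂[v ^ k]) := Nat.card_pos
  obtain ⟨c2, -⟩ := ih _ (by omega) (E ⊓ 𝐂[v ^ k]) rfl (PGroup.elemAb_of_le hE inf_le_left)
    (inf_le_left.trans eH) (inf_le_left.trans eM) (eq_bot_mono ef (inf_le_inf_right _ inf_le_left)) e1 (by omega)
  obtain ⟨a, v, -, d1, d2, d3, d4, -⟩ := exists_dual_system hE hM ho eM ef (k := 2) (by omega)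
  obtain ⟨p, k, r⟩ := rf_prime ho mH (eH (d1 0)) (hE.2 _ (d1 0)) (d2 0).1 (d2 0).2.1 (d3 0)
  obtain ⟨q, l, r'⟩ := rf_prime ho mH (eH (d1 1)) (hE.2 _ (d1 1)) (d2 1).1 (d2 1).2.1 (d3 1)
  refine s.four r r' (cent1_le_cent1_pow _ _ (d4 1 0 (by decide))) (cent1_le_cent1_pow _ _ (d4 0 1 (by decide)))
    (cent_le_cent1 (d1 0) (abelian_cent hE.1 (d1 1)))
    (cent_le_cent1 (pow_mem (d2 0).1 k) (abelian_cent hM (pow_mem (d2 1).1 l))) (le_trans (rel_left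
      (inf_le_right.trans (le_inf (cent_le_cent1 (d1 0)) (cent_le_cent1 (d1 1))))) (h.trans (by omega)))

/-- `F = 𝐅(H)` has odd order and contains its centralizer in `H`, so `E` is faithful on `F` and on an abelian
`E`-invariant `V₀ ≤ F` (`exists_abelian_faithful`). Induct on `|E|`.
Basic step (B): let `a ∈ E` invert `1 ≠ x ∈ V₀` with `Eig E x`, `E₁ = E ⊓ 𝐂[x]` (index 2), `W = ⁅V, ⟨x⟩⁆ ≠ 1`,
`C_W(x) = 1`, `U = C_W(E₁) ≠ 1` (invariant under `a`, `x`). `a` does not centralize `U` (else so does `x`), so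
`C_V(E) < C_V(E₁)`. If `|C_V(E₁) : C_V(E)| = 2` then `C_U(a)` and `C_U(x a x⁻¹)` have index 2 in `U` and meet in
`C_U(x) = 1`, so `|U| ≤ 4`, `|C_W(E)| = |C_U(a)| = 2` and `x³` centralizes `U`.
`|E| = 2`: `E₁ = 1`, `U = W`; index 2 would give `|W| ≤ 4`, against `nr`; so the index is 4.
`|E| ≥ 8`: by induction `|V : C_V(E₁)| > 2 |E₁| = |E|`, a power of 2, so `≥ 2 |E|` and `C_V(E₁) = C_V(E)`, false.
`|E| = 4`: take a dual system `a₁, a₂, x₁, x₂` (`exists_dual_system`, `k = 2`), and replace `x_i` by a power of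
prime order. `|V : C_V(a_j)| ≥ 4` by the first case and `|V : C_V(E)| ≤ 8`, so (B) applies to both: `x_i³`
centralizes `U_i ≠ 1` while `C_{W_i}(x_i) = 1`, so `x_i³ = 1`; `|C_{W_i}(E)| = 2`, `4 < |W_i| ≤ 16`.
`W₁ = ⁅W₁, x₂⁆ × C_{W₁}(x₂)` with `E`-invariant factors, so one of them is trivial (`|C_{W₁}(E)| = 2`).
If `x₂` centralizes `W₁` then `W₁ ⊓ W₂ = 1`, `C_{W₁ W₂}(E)` has order 4 and index `≥ 16` in `W₁ W₂`, too big.
Otherwise `W₁ ≤ W₂`, by symmetry `W₁ = W₂ = W`, `x₁, x₂` have no fixed points on `W`, and `1 + x + x² = 0` gives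
`(1 + x₁ x₂)(1 + x₁ x₂⁻¹) = 0` on `W`: `⁅V, x₁ x₂⁆ = ⁅W, x₁ x₂⁆ ≤ C_W(x₁ x₂⁻¹)`. The subgroups `C_W(x₁ x₂)`,
`C_W(x₁ x₂⁻¹)` are swapped by `a₂` and meet trivially (in `C_W(x₁²)`), so they have order at most 4, and `nr`
gives `x₁ x₂ = 1`, false as `a₁` inverts `x₁` and centralizes `x₂`. -/
theorem refl (hV : IsElementaryAbelian 2 V) (hH : H ≤ 𝐍(V)) (hs : Group.IsSolvable H) (hf : H ⊓ 𝐂(V) = ⊥)
    (h2 : 𝐎({2}, H) = ⊥) (nr : ∀ x ∈ H, Odd (orderOf x) → Nat.card ↥⁅V, zpowers x⁆ ≤ 4 → x ∈ 𝐂(V))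
    (hE : IsElementaryAbelian 2 E) (eH : E ≤ H) (e0 : E ≠ ⊥) (h : 𝐂(E).relIndex V ≤ 2 * Nat.card E) :
    Nat.card E = 2 ∧ 𝐂(E).relIndex V = 4 := by
  have ho : PiGrp {2}ᶜ 𝐅(H) := PiGrp.p'_iff.2 fun hd => by
    obtain ⟨P, h1, h3⟩ := exists_card_eq_prime Nat.prime_two hd
    exact ne_bot_of_prime (h3 ▸ Nat.prime_two) (eq_bot_mono h2
      (le_pcore_of_le_Fitting h1 (IsPGroup.of_card (n := 1) (by rw [h3, pow_one]))))
  obtain ⟨M, m1, m2, m3, m4⟩ := exists_abelian_faithful hE (nil_sol (Fitting_nil H)) ho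
    (norm_Fitting (le_norm_of_le eH))
  have m5 := m1.trans (Fitting_le _)
  refine RS.main ⟨hV, hH, hf, nr⟩ m2 (ho.of_le m5) (m5.trans (Fitting_le H)) _ E rfl hE eH m3 ?_ e0 h
  exact eq_bot_mono ((PiGrp.p_iff.2 (PGroup.elemAb_isPGroup hE)).inf_eq_bot ho)
    (le_inf inf_le_left (le_trans (le_inf (inf_le_left.trans eH) m4) (cent_sub_Fitting hs)))

end Cfsg.Lib.NF
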