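import Cfsg.Agent.S3360
import Cfsg.Agent.Lib.BG.Quo

/-!
# Abelian transitive subgroups of a solvable linear group commute
-/

set_option autoImplicit false
set_option linter.unusedSectionVars false

namespace Cfsg.Lib.NF

open Subgroup Cfsg.Lib.BG Cfsg.Lib.Transfer
open scoped commutatorElement

theorem ha_sq_lt (m : ℕ) : m ^ 2 < 2 ^ (m + 1) := by
  induction m with
  | zero => simp
  | succ m ih =>
    have := Nat.lt_two_pow_self (n := m)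
    rw [pow_succ 2 (m + 1), pow_succ 2 m] at *
    nlinarith

theorem ha_num {n l : ℕ} (h1 : 2 ≤ l) (h2 : l ^ 2 ≤ 2 ^ n) (h3 : 2 ^ n - 1 ≤ n * (l - 1)) : False := by
  obtain ⟨l, rfl⟩ := Nat.exists_eq_add_of_le' h1
  rw [show l + 2 - 1 = l + 1 from rfl, tsub_le_iff_right] at h3
  rcases le_or_gt n (l + 2) with h | h
  · nlinarith
  · obtain ⟨m, rfl⟩ := Nat.exists_eq_add_of_lt h
    have := ha_sq_lt (l + 2 + m)
    nlinarith

/-- Let `a σ` be in the family. For `c ≠ 0` there is a member `c τ` (it maps `1` to `c`), and evaluating the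
commutation relation at `1` gives `a σ(c) = c τ(a)`. So `c ↦ σ(c) / c` takes at most `n = |Aut F|` values on `Fˣ`,
`|F| = 2 ^ n`. Its fibres are cosets of the units of the fixed field of `σ`, which has at most `2 ^ (n / 2)` elements
if `σ ≠ 1`; but `n (2 ^ (n / 2) - 1) < 2 ^ n - 1`. -/
theorem aut_eq_refl {F : Type} [Field F] [Fintype F] [CharP F 2] (𝒦 : Set (F × (F ≃+* F)))
    (comm : ∀ k ∈ 𝒦, ∀ l ∈ 𝒦, ∀ v, k.1 * k.2 (l.1 * l.2 v) = l.1 * l.2 (k.1 * k.2 v))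
    (tr : ∀ c : F, c ≠ 0 → ∃ k ∈ 𝒦, k.1 = c) (ne : ∀ k ∈ 𝒦, k.1 ≠ 0) : ∀ k ∈ 𝒦, k.2 = RingEquiv.refl F := by
  classical
  rintro ⟨a, σ⟩ hk
  by_contra hσ
  obtain ⟨x, hx⟩ : ∃ x, σ x ≠ x := by
    by_contra! h
    exact hσ (RingEquiv.ext h)
  let _ := ZMod.algebra F 2
  let L : Finset F := Finset.univ.filter fun c => σ c = c
  have mL : ∀ c, c ∈ L ↔ σ c = c := fun c => by simp [L]
  have h1 : 2 ≤ L.card := Finset.one_lt_card.2 ⟨0, (mL _).2 (map_zero σ), 1, (mL _).2 (map_one σ), zero_ne_one⟩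
  have hq : Fintype.card F = 2 ^ Module.finrank (ZMod 2) F := by
    rw [Module.card_eq_pow_finrank (K := ZMod 2), ZMod.card]
  have h2 : L.card ^ 2 ≤ Fintype.card F := by
    rw [sq, ← Finset.card_product, ← Finset.card_univ]
    refine Finset.card_le_card_of_injOn (fun p => p.1 + p.2 * x) (fun _ _ => Finset.mem_univ _) ?_
    rintro ⟨b, c⟩ hb ⟨d, e⟩ hd h
    simp only [Finset.coe_product, Set.mem_prod, Finset.mem_coe, mL] at hb hd h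
    have h' := congrArg σ h
    simp only [map_add, map_mul, hb.1, hb.2, hd.1, hd.2] at h'
    have : c = e := mul_right_cancel₀ (sub_ne_zero.2 hx) (by linear_combination h' - h)
    subst this
    rw [add_right_cancel h]
  refine ha_num h1 (hq ▸ h2) ?_
  have a0 : a ≠ 0 := ne _ hk
  let S : (F ≃ₐ[ZMod 2] F) → Finset F := fun τ => Finset.univ.filter fun c => c ≠ 0 ∧ a * σ c = c * τ a
  have h3 : ∀ τ, (S τ).card ≤ L.card - 1 := fun τ => by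
    rcases (S τ).eq_empty_or_nonempty with e | ⟨d, hd⟩
    · rw [e]; exact Nat.zero_le _
    rw [← Finset.card_erase_of_mem ((mL _).2 (map_zero σ))]
    simp only [S, Finset.mem_filter, Finset.mem_univ, true_and] at hd
    refine Finset.card_le_card_of_injOn (fun c => c / d) (fun c hc => ?_) fun b _ c _ h => (div_left_inj' hd.1).1 h
    simp only [S, Finset.coe_filter, Finset.mem_univ, true_and, Set.mem_ofPred_eq] at hc
    refine Finset.mem_erase.2 ⟨div_ne_zero hc.1 hd.1, (mL _).2 ?_⟩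
    rw [map_div₀, div_eq_div_iff ((map_ne_zero σ).2 hd.1) hd.1]
    exact mul_left_cancel₀ a0 (by linear_combination d * hc.2 - c * hd.2)
  rw [← hq, ← Finset.card_univ, ← Finset.card_erase_of_mem (Finset.mem_univ (0 : F))]
  refine (Finset.card_le_card (t := Finset.univ.biUnion S) fun c hc => ?_).trans (Finset.card_biUnion_le.trans
    ((Finset.sum_le_card_nsmul _ _ _ fun τ _ => h3 τ).trans (Nat.mul_le_mul_right _ AlgEquiv.card_le)))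
  obtain ⟨⟨_, τ⟩, hl, rfl⟩ := tr c (Finset.ne_of_mem_erase hc)
  refine Finset.mem_biUnion.2 ⟨AlgEquiv.ofRingEquiv (f := τ) fun z => DFunLike.congr_fun
    (RingHom.ext_zmod ((τ : F →+* F).comp (algebraMap _ F)) (algebraMap _ F)) z, Finset.mem_univ _, ?_⟩
  exact Finset.mem_filter.2 ⟨Finset.mem_univ _, Finset.ne_of_mem_erase hc,
    (by simpa using comm _ hk _ hl 1 : a * σ _ = _ * τ a)⟩

variable {X : Type*} [Group X] [Finite X] {D E J K K₁ K₂ : Subgroup X}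

theorem ha_coord (hs : Group.IsSolvable D) (dJ : D ≤ 𝐍(J)) (sq : ∀ s ∈ J, s ^ 2 = 1) (h0 : J ≠ ⊥)
    (t : ∀ s ∈ J, ∀ t ∈ J, s ≠ 1 → t ≠ 1 → ∃ k ∈ D, k * s * k⁻¹ = t) :
    ∃ (F : Type) (_ : Field F) (_ : Fintype F) (_ : CharP F 2) (e : X → F), Set.BijOn e J Set.univ ∧ e 1 = 0 ∧
      ∀ d ∈ D, ∃ (a : F) (σ : F ≃+* F), ∀ v ∈ J, e (d * v * d⁻¹) = a * σ (e v) := by
  classical
  have hc : ∀ x y : J, x * y = y * x := fun x y => by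
    have h : ∀ z : J, z⁻¹ = z := fun z => inv_eq_of_mul_eq_one_right (Subtype.ext ((pow_two _).symm.trans (sq _ z.2)))
    rw [← h (x * y), mul_inv_rev, h, h]
  let _ : CommGroup J := { mul_comm := hc }
  have h2 : ∀ v : Additive J, 2 • v = 0 := fun v => Subtype.ext (sq _ v.toMul.2)
  let _ : Module (ZMod 2) (Additive J) := AddCommGroup.zmodModule h2
  have := (nontrivial_iff_ne_bot J).2 h0
  let φ : D →* MulAut J := J.normalizerMonoidHom.comp (inclusion dJ)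
  let ρ : φ.range →* (Additive J ≃ₗ[ZMod 2] Additive J) :=
    { toFun := fun g => (MulEquiv.toAdditive g.1).toLinearEquiv (ZMod.map_smul (MulEquiv.toAdditive g.1))
      map_one' := rfl
      map_mul' := fun _ _ => rfl }
  rcases Agent.S3360.result 2 (Group.isSolvable_of_surjective φ.rangeRestrict_surjective) ρ
    (fun g h e => Subtype.ext (MulEquiv.ext fun v => LinearEquiv.congr_fun e (Additive.ofMul v))) (fun v w hv hw => by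
      obtain ⟨k, hk, e⟩ := t _ v.toMul.2 _ w.toMul.2 (fun e => hv (Subtype.ext e)) fun e => hw (Subtype.ext e)
      exact ⟨⟨_, ⟨k, hk⟩, rfl⟩, Subtype.ext e⟩) with ⟨F, _, _, e, he⟩ | h
  · refine ⟨F, inferInstance, inferInstance, CharTwo.of_one_ne_zero_of_two_eq_zero one_ne_zero ?_,
      fun x => if h : x ∈ J then e (Additive.ofMul ⟨x, h⟩) else 0, ⟨fun _ _ => trivial, fun x hx y hy h => ?_,
        fun c _ => ?_⟩, ?_, fun d hd => ?_⟩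
    · rw [← e.apply_symm_apply 2, ← one_add_one_eq_two, map_add, ← two_nsmul, h2, map_zero]
    · simp only [SetLike.mem_coe.1 hx, SetLike.mem_coe.1 hy, dif_pos] at h
      exact congrArg Subtype.val (Additive.ofMul.injective (e.injective h))
    · exact ⟨_, (e.symm c).toMul.2, (dif_pos (e.symm c).toMul.2).trans (e.apply_symm_apply c)⟩
    · exact (dif_pos J.one_mem).trans (map_zero e)
    · obtain ⟨a, σ, h⟩ := he ⟨_, ⟨d, hd⟩, rfl⟩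
      refine ⟨a, σ, fun v hv => ?_⟩
      simp only [hv, (mem_normalizer_iff.1 (dJ hd) v).1 hv, dif_pos]
      exact h (Additive.ofMul ⟨v, hv⟩)
  · obtain ⟨v, hv⟩ := exists_ne (0 : Additive J)
    have := addOrderOf_eq_prime (h2 v) hv ▸ addOrderOf_dvd_natCard v
    simp only [Set.mem_insert_iff, Set.mem_singleton_iff] at h
    omega

theorem ha_iff {k l : X} (hk : k ∈ 𝐍(J)) (hl : l ∈ 𝐍(J)) :
    ⁅k, l⁆ ∈ 𝐂(J) ↔ ∀ v ∈ J, k * (l * v * l⁻¹) * k⁻¹ = l * (k * v * k⁻¹) * l⁻¹ := by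
  rw [mem_centralizer_iff, commutatorElement_def]
  refine ⟨fun h v hv => ?_, fun h v hv => ?_⟩
  · have := h _ ((mem_normalizer_iff.1 hl _).1 ((mem_normalizer_iff.1 hk _).1 hv))
    calc _ = k * l * k⁻¹ * l⁻¹ * (l * (k * v * k⁻¹) * l⁻¹) * (k * l * k⁻¹ * l⁻¹)⁻¹ := by group
      _ = _ := by rw [← this, mul_inv_cancel_right]
  · have := h _ ((mem_normalizer_iff.1 (inv_mem (mul_mem hl hk)) _).1 hv)
    calc _ = l * (k * ((l * k)⁻¹ * v * (l * k)⁻¹⁻¹) * k⁻¹) * l⁻¹ * (k * l * k⁻¹ * l⁻¹) := by group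
      _ = _ := by rw [← this]; group

theorem ha_cent (hs : Group.IsSolvable D) (h₁ : K₁ ≤ D) (h₂ : K₂ ≤ D) (dJ : D ≤ 𝐍(J)) (sq : ∀ s ∈ J, s ^ 2 = 1)
    (t₁ : ∀ s ∈ J, ∀ t ∈ J, s ≠ 1 → t ≠ 1 → ∃ k ∈ K₁, k * s * k⁻¹ = t)
    (t₂ : ∀ s ∈ J, ∀ t ∈ J, s ≠ 1 → t ≠ 1 → ∃ k ∈ K₂, k * s * k⁻¹ = t)
    (a₁ : ⁅K₁, K₁⁆ ≤ 𝐂(J)) (a₂ : ⁅K₂, K₂⁆ ≤ 𝐂(J)) : ⁅K₁, K₂⁆ ≤ 𝐂(J) := by
  by_cases h0 : J = ⊥
  · subst h0
    exact le_centralizer_iff.1 bot_le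
  obtain ⟨F, _, _, _, e, he, e1, h⟩ := ha_coord hs dJ sq h0 fun s hs t ht s1 t1 =>
    (t₁ s hs t ht s1 t1).imp fun k hk => ⟨h₁ hk.1, hk.2⟩
  have cj : ∀ k ∈ D, ∀ v ∈ J, k * v * k⁻¹ ∈ J := fun k hk v hv => (mem_normalizer_iff.1 (dJ hk) v).1 hv
  have key : ∀ K ≤ D, (∀ s ∈ J, ∀ t ∈ J, s ≠ 1 → t ≠ 1 → ∃ k ∈ K, k * s * k⁻¹ = t) → ⁅K, K⁆ ≤ 𝐂(J) →
      ∀ k ∈ K, ∃ a : F, ∀ v ∈ J, e (k * v * k⁻¹) = a * e v := fun K hK t a k hk => by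
    obtain ⟨s, hs, s1⟩ := he.surjOn (Set.mem_univ (1 : F))
    have s0 : s ≠ 1 := fun e' => one_ne_zero (s1.symm.trans (e' ▸ e1))
    obtain ⟨b, σ, hb⟩ := h k (hK hk)
    have := aut_eq_refl {x : F × (F ≃+* F) | ∃ k ∈ K, ∀ v ∈ J, e (k * v * k⁻¹) = x.1 * x.2 (e v)} ?_ ?_ ?_ (b, σ)
      ⟨k, hk, hb⟩
    · exact ⟨b, fun v hv => by rw [hb v hv, show σ = _ from this]; rfl⟩
    · rintro x ⟨k, hk, hx⟩ y ⟨l, hl, hy⟩ c
      obtain ⟨v, hv, rfl⟩ := he.surjOn (Set.mem_univ c)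
      rw [← hy v hv, ← hx v hv, ← hx _ (cj l (hK hl) v hv), ← hy _ (cj k (hK hk) v hv),
        (ha_iff (dJ (hK hk)) (dJ (hK hl))).1 (a (commutator_mem_commutator hk hl)) v hv]
    · intro c hc
      obtain ⟨v, hv, rfl⟩ := he.surjOn (Set.mem_univ c)
      obtain ⟨l, hl, rfl⟩ := t s hs v hv s0 fun e' => hc (e' ▸ e1)
      obtain ⟨c, τ, hτ⟩ := h l (hK hl)
      exact ⟨(c, τ), ⟨l, hl, hτ⟩, by rw [hτ s hs, s1, map_one, mul_one]⟩
    · rintro x ⟨l, hl, hx⟩ e0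
      exact s0 (conj_eq_one_iff.1 (he.injOn (cj l (hK hl) s hs) J.one_mem (by rw [hx s hs, e0, zero_mul, e1])))
  refine commutator_le.2 fun k hk l hl => (ha_iff (dJ (h₁ hk)) (dJ (h₂ hl))).2 fun v hv => ?_
  obtain ⟨a, ha⟩ := key _ h₁ t₁ a₁ k hk
  obtain ⟨b, hb⟩ := key _ h₂ t₂ a₂ l hl
  have m1 := cj k (h₁ hk) v hv
  have m2 := cj l (h₂ hl) v hv
  refine he.injOn (cj k (h₁ hk) _ m2) (cj l (h₂ hl) _ m1) ?_
  rw [ha _ m2, hb _ m1, ha v hv, hb v hv, mul_left_comm]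

theorem ha_trans (hK : K ≤ 𝐍(E)) (t : ∀ s ∈ J, ∀ t ∈ J, s ∉ E → t ∉ E → ∃ k ∈ K, (k * s * k⁻¹)⁻¹ * t ∈ E) :
    ∀ s ∈ quo J E, ∀ t ∈ quo J E, s ≠ 1 → t ≠ 1 → ∃ k ∈ quo K E, k * s * k⁻¹ = t := by
  rintro _ ⟨s, hs, rfl⟩ _ ⟨u, hu, rfl⟩ s1 u1
  obtain ⟨k, hk, h⟩ := t _ hs _ hu (fun e => s1 ((QuotientGroup.eq_one_iff _).2 e)) fun e =>
    u1 ((QuotientGroup.eq_one_iff _).2 e)
  refine ⟨_, ⟨⟨k, hK hk⟩, hk, rfl⟩, ?_⟩
  rw [← map_inv, ← map_mul, ← map_mul]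
  exact QuotientGroup.eq.2 h

/-- Let `D` act on the `𝔽₂`-space `J / E`; apply Huppert's theorem (`S3360`) to the image of `D`. By `aut_eq_refl`
both `K₁` and `K₂` act by scalars. -/
theorem comm_le_of_trans (hs : Group.IsSolvable D) (h₁ : K₁ ≤ D) (h₂ : K₂ ≤ D) (dJ : D ≤ 𝐍(J)) (dE : D ≤ 𝐍(E))
    (hE : Nml E J) (sq : ∀ s ∈ J, s ^ 2 ∈ E)
    (t₁ : ∀ s ∈ J, ∀ t ∈ J, s ∉ E → t ∉ E → ∃ k ∈ K₁, (k * s * k⁻¹)⁻¹ * t ∈ E)
    (t₂ : ∀ s ∈ J, ∀ t ∈ J, s ∉ E → t ∉ E → ∃ k ∈ K₂, (k * s * k⁻¹)⁻¹ * t ∈ E)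
    (a₁ : ⁅J, ⁅K₁, K₁⁆⁆ ≤ E) (a₂ : ⁅J, ⁅K₂, K₂⁆⁆ ≤ E) : ⁅J, ⁅K₁, K₂⁆⁆ ≤ E := by
  have iff : ∀ {A B : Subgroup X}, A ≤ D → B ≤ D → (⁅J, ⁅A, B⁆⁆ ≤ E ↔ ⁅quo A E, quo B E⁆ ≤ 𝐂(quo J E)) := fun hA hB => by
    rw [← quo_le_cent_iff hE.norm (((commutator_mono hA hB).trans (der_le D)).trans dE),
      quo_comm (hA.trans dE) (hB.trans dE), le_centralizer_iff]
  refine (iff h₁ h₂).2 (ha_cent (sol_quo hs E) (quo_mono h₁ E) (quo_mono h₂ E) (quo_norm dJ E) ?_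
    (ha_trans (h₁.trans dE) t₁) (ha_trans (h₂.trans dE) t₂) ((iff h₁ h₁).1 a₁) ((iff h₂ h₂).1 a₂))
  rintro _ ⟨s, hs, rfl⟩
  rw [← map_pow]
  exact (QuotientGroup.eq_one_iff _).2 (sq _ hs)

end Cfsg.Lib.NF
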