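import Cfsg.Agent.Lib.NF.Tor0

/-!
# The torus of a block
-/

set_option autoImplicit false
set_option linter.unusedSectionVars false

namespace Cfsg.Lib.NF

open Subgroup Cfsg.Lib.BG Cfsg.Lib.Transfer Cfsg.Lib.Loc Cfsg.Lib.PLocal Cfsg.Lib.CGT Cfsg.Lib.PU Cfsg.Lib.FQ
open scoped commutatorElement

universe u

variable {G : Type u} [Group G] {B K L M P R T V : Subgroup G} {I : Subgroup G → Prop} {g : G}

/-- `K` acts on `R` like the diagonal torus of `SL₂(q)`. -/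
structure Tor (R V K : Subgroup G) : Prop where
  nR : K ≤ 𝐍(R)
  nV : K ≤ 𝐍(V)
  cg : ∀ x ∈ R ⊓ 𝐂(V), ∀ k ∈ K, ⁅x, k⁆ ∈ V
  ab : ⁅K, K⁆ ≤ 𝐂(V)
  t1 : ∀ v ∈ V, ∀ w ∈ V, v ∉ 𝐂(R) → w ∉ 𝐂(R) → ∃ k ∈ K, (k * v * k⁻¹)⁻¹ * w ∈ 𝐂(R)
  t2 : ∀ s ∈ R, ∀ t ∈ R, s ∉ 𝐂(V) → t ∉ 𝐂(V) → ∃ k ∈ K, (k * s * k⁻¹)⁻¹ * t ∈ 𝐂(V)
  t3 : ∀ y ∈ ⁅V, R⁆, ∀ z ∈ ⁅V, R⁆, y ∉ 𝐂(K) → z ∉ 𝐂(K) → ∃ k ∈ K, (k * y * k⁻¹)⁻¹ * z ∈ 𝐂(K)
  t4 : 𝐂(V).relIndex R = 2 ∨ ∃ k ∈ K, ∃ y ∈ ⁅V, R⁆, ⁅y, k⁆ ∉ 𝐂(K)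

section pull
variable {G' : Type*} [Group G'] {f : G →* G'} {Y U : Subgroup G} {x : G} (hY : Y ⊓ f.ker = ⊥)
include hY

theorem tp_mem (hU : U ≤ Y) (hx : x ∈ Y) (e : f x ∈ U.map f) : x ∈ U := by
  obtain ⟨u, hu, e⟩ := e
  have : u⁻¹ * x ∈ Y ⊓ f.ker := ⟨Y.mul_mem (Y.inv_mem (hU hu)) hx, by simp [e]⟩
  rw [hY, mem_bot, inv_mul_eq_one] at this
  exact this ▸ hu

theorem tp_cent (h1 : ∀ a ∈ U, ⁅a, x⁆ ∈ Y) (e : f x ∈ 𝐂(U.map f)) : x ∈ 𝐂(U) := BG.mem_cent.2 fun a ha =>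
  commutatorElement_eq_one_iff_mul_comm.1 (mem_bot.1 (hY ▸ mem_inf.2 ⟨h1 a ha, by
    rw [MonoidHom.mem_ker, map_commutatorElement]
    exact commutatorElement_eq_one_iff_mul_comm.2 (BG.mem_cent.1 e _ (mem_map_of_mem f ha))⟩))

theorem tp_cent1 (hU : U ≤ Y) (hx : x ∈ 𝐍(Y)) (e : f x ∈ 𝐂(U.map f)) : x ∈ 𝐂(U) :=
  tp_cent hY (fun _ ha => GC.comm_mem_l (hU ha) hx) e

theorem tp_cent2 (hU : U ≤ 𝐍(Y)) (hx : x ∈ Y) (e : f x ∈ 𝐂(U.map f)) : x ∈ 𝐂(U) :=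
  tp_cent hY (fun _ ha => by
    rw [← commutatorElement_inv]; exact inv_mem (GC.comm_mem_l hx (hU ha))) e

omit hY in
theorem tp_tr {Z : Subgroup G} (hZ : Z ≤ Y) (hK : K ≤ 𝐍(Y)) (c : ∀ x ∈ Y, f x ∈ 𝐂(U.map f) → x ∈ 𝐂(U))
    (h : ∀ y ∈ Z.map f, ∀ z ∈ Z.map f, y ∉ 𝐂(U.map f) → z ∉ 𝐂(U.map f) →
      ∃ k ∈ K.map f, (k * y * k⁻¹)⁻¹ * z ∈ 𝐂(U.map f)) :
    ∀ y ∈ Z, ∀ z ∈ Z, y ∉ 𝐂(U) → z ∉ 𝐂(U) → ∃ k ∈ K, (k * y * k⁻¹)⁻¹ * z ∈ 𝐂(U) := by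
  intro y hy z hz n1 n2
  obtain ⟨_, ⟨k, hk, rfl⟩, e⟩ := h _ (mem_map_of_mem f hy) _ (mem_map_of_mem f hz) (mt (c y (hZ hy)) n1)
    (mt (c z (hZ hz)) n2)
  refine ⟨k, hk, c _ (mul_mem (inv_mem (conj_mem_of_norm (hK hk) (hZ hy))) (hZ hz)) ?_⟩
  simpa only [map_mul, map_inv] using e

theorem Tor.pull (hR : R ≤ Y) (hV : V ≤ Y) (hK : K ≤ 𝐍(Y)) (h : Tor (R.map f) (V.map f) (K.map f)) :
    Tor R V K := by
  have nm : ∀ U ≤ Y, K.map f ≤ 𝐍(U.map f) → K ≤ 𝐍(U) := fun U hU e => le_norm_iff.2 fun k hk u hu =>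
    tp_mem hY hU (conj_mem_of_norm (hK hk) (hU hu)) (by
      rw [map_mul, map_mul, map_inv]
      exact conj_mem_of_norm (e (mem_map_of_mem f hk)) (mem_map_of_mem f hu))
  have c1 : ∀ U ≤ Y, ∀ x ∈ Y, f x ∈ 𝐂(U.map f) → x ∈ 𝐂(U) := fun U hU x hx => tp_cent1 hY hU (le_norm Y hx)
  have c2 : ∀ x ∈ Y, f x ∈ 𝐂(K.map f) → x ∈ 𝐂(K) := fun x hx => tp_cent2 hY hK hx
  have l : ⁅V, R⁆ ≤ Y := comm_le_of_le hV hR
  refine ⟨nm R hR h.nR, nm V hV h.nV, fun x hx k hk => tp_mem hY hV (GC.comm_mem_l (hR hx.1) (hK hk)) ?_,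
    fun x hx => tp_cent1 hY hV (hK (der_le K hx)) (h.ab (map_commutator K K f ▸ mem_map_of_mem f hx)),
    tp_tr hV hK (c1 R hR) h.t1, tp_tr hR hK (c1 V hV) h.t2, tp_tr l hK c2 (map_commutator V R f ▸ h.t3), ?_⟩
  · rw [map_commutatorElement]
    exact h.cg _ ⟨mem_map_of_mem f hx.1, map_cent f le_rfl (mem_map_of_mem f hx.2)⟩ _ (mem_map_of_mem f hk)
  · refine h.t4.imp (fun e => ?_) ?_
    · rw [← e, ← relIndex_comap, ← inf_relIndex_right, ← inf_relIndex_right (Subgroup.comap f _)]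
      congr 1
      exact le_antisymm (inf_le_inf_right _ fun x hx => map_cent f le_rfl (mem_map_of_mem f hx))
        fun x hx => ⟨c1 V hV x (hR hx.2) hx.1, hx.2⟩
    · rw [← map_commutator]
      rintro ⟨_, ⟨k, hk, rfl⟩, _, ⟨y, hy, rfl⟩, e⟩
      refine ⟨k, hk, y, hy, fun c => e ?_⟩
      rw [← map_commutatorElement]
      exact map_cent f le_rfl (mem_map_of_mem f c)

end pull

theorem tp_tr' {G' : Type*} [Group G'] {f : G →* G'} {U Z : Subgroup G}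
    (h : ∀ y ∈ Z, ∀ z ∈ Z, y ∉ 𝐂(U) → z ∉ 𝐂(U) → ∃ k ∈ K, (k * y * k⁻¹)⁻¹ * z ∈ 𝐂(U)) :
    ∀ y ∈ Z.map f, ∀ z ∈ Z.map f, y ∉ 𝐂(U.map f) → z ∉ 𝐂(U.map f) →
      ∃ k ∈ K.map f, (k * y * k⁻¹)⁻¹ * z ∈ 𝐂(U.map f) := by
  rintro _ ⟨y, hy, rfl⟩ _ ⟨z, hz, rfl⟩ n1 n2
  have c : ∀ x ∈ 𝐂(U), f x ∈ 𝐂(U.map f) := fun x hx => map_cent f le_rfl (mem_map_of_mem f hx)
  obtain ⟨k, hk, e⟩ := h y hy z hz (mt (c y) n1) (mt (c z) n2)
  exact ⟨_, mem_map_of_mem f hk, by simpa only [map_mul, map_inv] using c _ e⟩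

theorem tor_map {G' : Type*} [Group G'] {f : G →* G'} (hf : Function.Injective f) :
    Tor (R.map f) (V.map f) (K.map f) ↔ Tor R V K := by
  refine ⟨Tor.pull (Y := ⊤) (by rw [(MonoidHom.ker_eq_bot_iff f).2 hf, inf_bot_eq]) le_top le_top
    (le_top.trans norm_top.ge), fun h => ⟨map_norm f h.nR, map_norm f h.nV, ?_,
      map_commutator K K f ▸ map_cent f h.ab, tp_tr' h.t1, tp_tr' h.t2, map_commutator V R f ▸ tp_tr' h.t3, ?_⟩⟩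
  · rintro _ ⟨⟨x, hx, rfl⟩, c⟩ _ ⟨k, hk, rfl⟩
    rw [← map_commutatorElement]
    exact mem_map_of_mem f (h.cg x ⟨hx, (FQ.mem_cent_map hf).1 c⟩ k hk)
  · refine h.t4.imp (fun e => by rwa [idx_cent_map hf]) ?_
    rintro ⟨k, hk, y, hy, e⟩
    refine ⟨_, mem_map_of_mem f hk, _, map_commutator V R f ▸ mem_map_of_mem f hy, fun c => e ?_⟩
    rwa [← map_commutatorElement, FQ.mem_cent_map hf] at c

theorem Tor.conj (h : Tor R V K) (x : G) : Tor (x ⋆ R) (x ⋆ V) (x ⋆ K) :=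
  (tor_map (MulAut.conj x).injective).2 h

variable [Finite G]

/-- Let `ρ : L → SL₂(F)` be given by `FF.natSec` (or `FF.hf`); its kernel `C` centralizes `𝐘 L` (`FF.ker`).
`K = {k ∈ 𝐑 L ⊓ 𝐍(B) | ρ k is diagonal}`. Every diagonal matrix `δ` is `ρ k` with `k ∈ K`: by the Frattini argument
there is `n ∈ L ⊓ 𝐍(B)` with `ρ n = δ u`, `u ∈ ρ B`, so we may take `ρ n = δ`; replace `δ` by a `2 ^ m`-th root and `n`
by `n ^ 2 ^ m` of odd order, which lies in `𝐑 L`. `B ⊓ 𝐂(𝐖 L) = 𝐐 L`, `𝐖 L ⊓ 𝐂(B) = ⁅𝐘 L, B⁆ = ⁅𝐖 L, B⁆` maps onto the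
line fixed by the unipotent matrices. For `t4`: if `|F| > 2` take `δ = diag(λ, λ⁻¹)`, `λ ≠ 1`. -/
theorem tor_of_ff (h : FF 2 B L) (hp : ⁅𝐐 L, 𝐑 L⁆ ≤ 𝐖 L) : ∃ K, Tor B (𝐖 L) K :=
  let ⟨K, a, b, c, d, e, f, g, i⟩ := tor_of_ff' h hp; ⟨K, a, b, c, d, e, f, g, i⟩

/-- `R = 𝐉 R ⊔ R ⊓ 𝐂(V)` (`Tq.le_sup_max`), so `V ⊓ 𝐂(𝐉 R) = V ⊓ 𝐂(R)`, `⁅V, 𝐉 R⁆ = ⁅V, R⁆` and the indices agree. -/
theorem Tor.thompson (h : Tor R V K) (b : Tq R V) (n : ¬ 𝐉 R ≤ 𝐂(V)) : Tor (𝐉 R) V K := by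
  obtain ⟨A, hA, nA⟩ : ∃ A ∈ maxIn 2 R, ¬ A ≤ 𝐂(V) := by
    by_contra! c; exact n (thompsonSubgroupOf_le_iff.2 c)
  have l := thompsonSubgroupOf_le (e := 2) R
  refine ⟨h.nR.trans (normalizer_le_normalizer_thompsonSubgroupOf R), h.nV, fun x hx => h.cg x ⟨l hx.1, hx.2⟩,
    h.ab, fun v hv w hw n1 n2 => ?_, fun s hs t ht => h.t2 s (l hs) t (l ht),
    fun y hy z hz => h.t3 y (commutator_mono le_rfl l hy) z (commutator_mono le_rfl l hz),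
    h.t4.imp (fun e => ?_) ?_⟩
  · obtain ⟨k, hk, e⟩ := h.t1 v hv w hw (fun a => n1 (cent_anti l a)) fun a => n2 (cent_anti l a)
    exact ⟨k, hk, cent_anti l e⟩
  · have h1 : 𝐂(V).relIndex (𝐉 R) ≤ 𝐂(V).relIndex R := relIndex_le_of_le_right l index_ne_zero_of_finite
    have h2 : 𝐂(V).relIndex (𝐉 R) ≠ 0 := index_ne_zero_of_finite
    have h3 : 𝐂(V).relIndex (𝐉 R) ≠ 1 := fun a => n (relIndex_eq_one.1 a)
    omega
  · rintro ⟨k, hk, y, hy, e⟩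
    refine ⟨k, hk, y, (commutator_le.2 fun v hv r hr => ?_ : ⁅V, R⁆ ≤ ⁅V, 𝐉 R⁆) hy, e⟩
    obtain ⟨j, hj, c, hc, rfl⟩ := (mem_sup_right_norm (norm_inf (l.trans (le_norm R))
      (norm_cent (l.trans b.nV)))).1 (sup_le_sup_right (le_thompsonSubgroupOf hA) _ (b.le_sup_max hA nA hr))
    have e1 : ⁅v, j * c⁆ = ⁅v, j⁆ := by
      have := BG.mem_cent.1 hc.2 _ (inv_mem hv)
      rw [commutatorElement_def, commutatorElement_def]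
      calc v * (j * c) * v⁻¹ * (j * c)⁻¹ = v * j * (c * v⁻¹) * (j * c)⁻¹ := by group
        _ = _ := by rw [← this]; group
    rw [e1]
    exact commutator_mem_commutator hv hj

/-- Take `K = K'.comap f ⊓ 𝐍(R)`; it maps onto `K'` by `comap_norm`, and `f` is injective on `R`. -/
theorem Tor.of_map {H : Type*} [Group H] [Finite H] {f : G →* H} (hf : Function.Surjective f)
    (ho : Odd (Nat.card f.ker)) (hR : IsPGroup 2 R) (hV : V ≤ R) {K' : Subgroup H}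
    (h : Tor (R.map f) (V.map f) K') : ∃ K, Tor R V K := by
  refine ⟨K'.comap f ⊓ 𝐍(R), Tor.pull (inf_ker ho hR) le_rfl hV inf_le_right ?_⟩
  suffices e : (K'.comap f ⊓ 𝐍(R)).map f = K' by rwa [e]
  refine le_antisymm (map_le_iff_le_comap.2 inf_le_left) fun k hk => ?_
  obtain ⟨x, rfl⟩ := hf k
  obtain ⟨g, hg, c, hc, rfl⟩ := (mem_sup_right_norm le_normalizer_of_normal).1 (comap_norm ho hR (h.nR hk))
  rw [map_mul, show f c = 1 from hc, mul_one] at hk ⊢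
  exact ⟨g, ⟨hk, hg⟩, rfl⟩

/-- The output of the pushing up step with the torus. -/
structure Post2 (T M P V : Subgroup G) (g : G) (K : Subgroup G) : Prop extends Post T M P V g where
  tor : Tor (𝐁 T) V K

/-- Copy of `Pre.post_chp` with `tor_of_ff`. -/
theorem post_chp (h : Pre T M ⊤ I) (hc : IsChP 2 (⊤ : Subgroup G)) : ∃ V g K, Post2 T M ⊤ V g K := by
  obtain ⟨L, k, hQ⟩ := ex0 hc h.pm (h.cz' hc) fun x hx => h.nj ⟨trivial, by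
    rw [← thompsonSubgroupOf_eq_of_le (thompson_le_baum T) inf_le_left]
    exact normalizer_le_normalizer_thompsonSubgroupOf _ hx⟩
  obtain ⟨M', r⟩ := k.rk
  obtain ⟨A, hA, n⟩ : ∃ A ∈ maxIn 2 T, ¬ A ≤ 𝐐 L := by
    by_contra! e
    exact h.not_le hc k (thompsonSubgroupOf_le_iff.2 e)
  have f := B2C.ff_of_max k.chp r (h.nc hc k) (mem_maxIn_of_le hA ((le_thompsonSubgroupOf hA).trans
    (thompson_le_baum T)) inf_le_left) n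
  obtain ⟨g, hg, e⟩ := f.exists_gen
  have p := h.comm_le hc k
  have nq : L ≤ 𝐍(𝐐 (⊤ : Subgroup G)) := le_top.trans (le_normalizer_core 2 ⊤)
  have q : ⁅𝐐 (⊤ : Subgroup G), 𝐑 L⁆ ≤ 𝐖 L := by
    rw [← commutator_res_res (core_pgroup 2 ⊤) nq]
    refine (commutator_mono ((le_inf (comm_le_left ((res_le 2 L).trans nq)) ((comm_le_right (hQ.trans
      (normalizer_le_normalizer_res 2 L))).trans (res_le 2 L))).trans (core_inf_le le_top)) le_rfl).trans p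
  have ny : L ≤ 𝐍(𝐘 (⊤ : Subgroup G)) := le_top.trans (norm_Y 2 ⊤)
  have nn := norm_comm ny (le_normalizer_res 2 L)
  have y : ⁅𝐘 (⊤ : Subgroup G), 𝐑 L⁆ ≤ 𝐖 L := (commutator_mono (oz_le _) le_rfl).trans q
  have tm : 𝐁 T ≤ M := inf_le_left.trans h.pm.le
  have i : 𝐘 L ≤ ⁅𝐘 (⊤ : Subgroup G), 𝐑 L⁆ ⊔ 𝐘 L ⊓ 𝐂(L) :=
    (CS.FF.irr f (y.trans f.W_le_Y) nn).resolve_left fun a => k.nle (r.le_of_res_le
      (fun x hx => h.cz (mem_inf.2 ⟨mem_top x, cent_anti inf_le_left (res_le_centralizer_of_commutator_self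
        CS.FF.pgroupY ny ((res_le 2 L).trans (cent_symm a)) hx)⟩)) tm)
  have j : ⁅𝐘 L, 𝐑 L⁆ ≤ 𝐘 (⊤ : Subgroup G) :=
    (commutator_mono i le_rfl).trans (comm_sup_le (le_top.trans (norm_Y 2 ⊤)) (le_top.trans (norm_Y 2 ⊤))
      ((comm_le_left (right_norm_comm _ _)).trans (comm_le_left ((res_le 2 L).trans ny)))
      ((comm_eq_bot_iff.2 (inf_le_right.trans (cent_anti (res_le 2 L)))).le.trans bot_le))
  obtain ⟨K, t⟩ := tor_of_ff f p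
  exact ⟨𝐖 L, g, K, ⟨mem_top g, fun a => k.nle (e.trans (sup_le tm (conj_le_of_mem tm a))), bq_of_ff f p hg e,
    fun a => h.not_le hc k ((le_inf (thompson_le_baum T) a).trans f.inf_cent_W.le), f.W_eq.le.trans j,
    fun x hx => q (commutator_mem_commutator hx hg)⟩, t⟩

theorem Post2.of_map {H : Type*} [Group H] [Finite H] {f : G →* H} (hf : Function.Surjective f)
    (ho : Odd (Nat.card f.ker)) (h1 : f.ker ≤ M) (h : PMin 2 T M ⊤) {V' K' : Subgroup H} {g' : H}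
    (k : Post2 (T.map f) (M.map f) ⊤ V' g' K') : ∃ V g K, Post2 T M ⊤ V g K := by
  have p := h.pgroup
  have pb : IsPGroup 2 (𝐁 T) := p.to_inf_left
  have q := map_core' hf ho h1 h
  have e : (𝐁 T ⊓ V'.comap f).map f = V' :=
    le_antisymm (map_le_iff_le_comap.2 inf_le_right) fun x hx => by
      obtain ⟨y, hy, rfl⟩ := (map_baum' ho p).ge (k.bq.le hx)
      exact ⟨y, ⟨hy, hx⟩, rfl⟩
  have v : 𝐁 T ⊓ V'.comap f ≤ 𝐁 T := inf_le_left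
  generalize 𝐁 T ⊓ V'.comap f = V at e v
  subst e
  obtain ⟨x, rfl⟩ := hf g'
  have a := k.bq.mem_norm (le_inf k.bq.le (abelian_cent k.bq.el.1)) le_rfl
  rw [← map_baum' ho p, ← map_inf_cent' ho pb v] at a
  obtain ⟨g, hg, c, hc, rfl⟩ := (mem_sup_right_norm le_normalizer_of_normal).1 (comap_norm ho pb.to_inf_left a)
  rw [map_mul, show f c = 1 from hc, mul_one] at k
  have b := Bq.of_map ho pb v (map_baum' ho p ▸ k.bq) hg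
  have vq : V ≤ 𝐐 ⊤ := (le_inf (v.trans inf_le_left) (map_le_iff_le_comap.1 (q ▸ k.le.trans (oz_le _)))).trans
    (le_of_map ho p (core_le_of_not_dvd h.syl))
  obtain ⟨K, t⟩ := Tor.of_map hf ho pb v (map_baum' ho p ▸ k.tor)
  refine ⟨V, g, K, ⟨trivial, fun a => k.gM (mem_map_of_mem f a), b,
    fun a => k.nc (map_thompson ho p ▸ map_cent f a),
    le_oz b.el vq fun x hx => cent_of' ho (core_pgroup 2 ⊤) le_rfl (vq hx)
      (q ▸ oz_le_centralizer _ (k.le (mem_map_of_mem f hx))), fun x hx => le_of_map ho (core_pgroup 2 ⊤) vq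
        (mem_inf.2 ⟨GC.comm_mem_l hx (le_normalizer_core 2 ⊤ (mem_top g)), ?_⟩)⟩, t⟩
  rw [mem_comap, map_commutatorElement]
  exact k.cq _ (q ▸ mem_map_of_mem f hx)

/-- Copies of `Post.of_map` and `Pre.post_top` with `Tor.of_map`. -/
theorem post_top (h : Pre T M ⊤ I) : ∃ V g K, Post2 T M ⊤ V g K := by
  have c : 𝐂(𝐐 ⊤) ≤ M := fun x hx => h.cz ⟨trivial, cent_anti (inf_le_left.trans (oz_le _)) hx⟩
  obtain ⟨O, _, o1, o2, o3⟩ := exists_odd h.pm c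
  have hf := QuotientGroup.mk'_surjective O
  have ho : Odd (Nat.card (QuotientGroup.mk' O).ker) := by rwa [QuotientGroup.ker_mk']
  have h1 : (QuotientGroup.mk' O).ker ≤ M := by rw [QuotientGroup.ker_mk']; exact o2.trans c
  obtain ⟨V, g, K, k⟩ := post_chp (h.map hf ho h1) fun x hx => by
    obtain ⟨x, rfl⟩ := hf x
    rw [← map_core' hf ho h1 h.pm] at hx ⊢
    have := o3 (cent_of ho (core_pgroup 2 ⊤) (fun a ha => GC.comm_mem_l ha (le_normalizer_core 2 ⊤ (mem_top x)))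
      hx.2)
    rwa [← Core.comap_map_mk'] at this
  exact k.of_map hf ho h1 h.pm

/-- Copy of `Pre.post` with `tor_map`. -/
theorem post (h : Pre T M P I) : ∃ V g K, Post2 T M P V g K := by
  have hf := P.subtype_injective
  have hT := h.pm.leP
  have e : ∀ {D : Subgroup G}, D ≤ P → (D.subgroupOf P).map P.subtype = D := map_subgroupOf_eq_of_le
  have t : (⊤ : Subgroup P).map P.subtype = P := Core.map_subtype_top P
  have b : (𝐁 (T.subgroupOf P)).map P.subtype = 𝐁 T := by rw [CS.map_baum hf, e hT]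
  have j : (𝐉 (T.subgroupOf P)).map P.subtype = 𝐉 T := by rw [map_thompsonSubgroupOf hf, e hT]
  have y : (𝐘 (⊤ : Subgroup P)).map P.subtype = 𝐘 P := by rw [map_Y hf, t]
  have n : ∀ {D : Subgroup P}, P ⊓ 𝐍(D.map P.subtype) ≤ M → ⊤ ⊓ 𝐍(D) ≤ M.subgroupOf P := fun a x hx =>
    a ⟨x.2, map_norm P.subtype le_rfl (mem_map_of_mem _ hx.2)⟩
  obtain ⟨V, g, K, k⟩ := post_top (T := T.subgroupOf P) (M := M.subgroupOf P)
    (I := fun Q => I (Q.map P.subtype)) ⟨subgroupOf_self P ▸ h.pm.subgroupOf le_rfl,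
      fun x hx => h.cz ⟨x.2, by
        rw [← y, ← e hT, ← CS.map_inf_cent hf]; exact (FQ.mem_cent_map hf).2 hx.2⟩, n (j.symm ▸ h.nj),
      by rw [Subgroup.map_bot]; exact h.i0, fun Q C a c d i => h.i1 _ _ a (map_mono c) (b ▸ map_mono d)
        (b ▸ (ch_map (by rw [ker_subtype, inf_bot_eq]) (c.trans d) d).2 i),
      fun Q a c d => n (h.i2 _ (b ▸ map_mono a) c (by rw [← b, ← CS.map_inf_cent hf]; exact map_mono d))⟩
  refine ⟨V.map P.subtype, g, K.map P.subtype, ⟨g.2, k.gM, b ▸ (bq_map hf).2 k.bq,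
    fun a => k.nc ((le_cent_map hf).1 (j.symm ▸ a)), y ▸ map_mono k.le, fun x hx => ?_⟩,
    b ▸ (tor_map hf).2 k.tor⟩
  rw [← t, ← map_core hf] at hx
  obtain ⟨x, hx, rfl⟩ := hx
  exact ⟨_, k.cq x hx, map_commutatorElement ..⟩

/-- Pass to the group `P`; by `exists_odd`, `T ⊓ 𝐂(𝐐 P) ≤ T ⊓ (𝐐 P ⊔ O) = 𝐐 P`. (Or `PMin.inf_le_core`.) -/
theorem inf_cent_le (h : PMin 2 T M P) (hc : P ⊓ 𝐂(𝐐 P) ≤ M) : T ⊓ 𝐂(𝐐 P) ≤ 𝐐 P := by
  exact le_trans (le_inf (inf_le_inf_right _ h.leP) inf_le_left)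
    (h.inf_le_core hc (norm_inf (le_norm P) (norm_cent (le_normalizer_core 2 P))))

end Cfsg.Lib.NF
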