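import Cfsg.Agent.Lib.NF.Fix
import Cfsg.Agent.Lib.NF.HA
import Cfsg.Agent.Lib.NF.Tor
import Cfsg.Agent.Lib.FQ.Flow

/-!
# The conjugates of a block under the operator group commute

Notation: `E = J ⊓ 𝐂(V)`, `E' = J ⊓ 𝐂(V')`, `Z₁ = ⁅V, J⁆`.
-/

set_option autoImplicit false
set_option linter.unusedSectionVars false

namespace Cfsg.Lib.NF

open Subgroup Cfsg.Lib.BG Cfsg.Lib.Transfer Cfsg.Lib.Loc Cfsg.Lib.PLocal Cfsg.Lib.FH Cfsg.Lib.FQ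
open scoped commutatorElement

variable {X : Type*} [Group X] [Finite X] {A D J K K₁ K₂ N U U₁ U₂ V V' : Subgroup X} {c g g' x : X}

omit [Finite X] in
theorem c1_l {a v w : X} (h : w * a = a * w) (h' : a * ⁅v, w⁆ = ⁅v, w⁆ * a) : ⁅a * v, w⁆ = ⁅v, w⁆ := by
  rw [← mul_inv_eq_iff_eq_mul.2 h', commutatorElement_def, commutatorElement_def, mul_inv_rev]
  calc a * v * w * (v⁻¹ * a⁻¹) * w⁻¹ = a * v * w * v⁻¹ * (w * a)⁻¹ := by group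
    _ = _ := by rw [h]; group

omit [Finite X] in
theorem c1_cm (b' : Tq J V') {a a' v w : X} (ha : a ∈ J) (ha' : a' ∈ J) (hv : v ∈ J) (hw : w ∈ V')
    (h1 : a ∈ 𝐂(V')) (h2 : a * v * a' = a' * (a * v)) : ⁅a * v, a' * w⁆ = ⁅v, w⁆ := by
  have q : ∀ y ∈ J, ⁅w, y⁆ ∈ 𝐂(J) := fun y hy => b'.quad (commutator_mem_commutator hw hy)
  rw [← commutatorElement_inv, c1_l h2 (mem_cent.1 (q _ (mul_mem ha hv)) _ ha'), commutatorElement_inv]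
  exact c1_l (mem_cent.1 h1 w hw) (mem_cent.1 (by simpa using inv_mem (q v hv)) a ha)

omit [Finite X] in
theorem c1_fix {k v w : X} (h : ⁅k * v * k⁻¹, k * w * k⁻¹⁆ = ⁅v, w⁆) : ⁅v, w⁆ ∈ 𝐂[k] := by
  rw [mem_cent1]
  nth_rw 1 [← h]
  simp only [commutatorElement_def]; group

omit [Finite X] in
theorem c1_cj (k v : X) : k * v * k⁻¹ = ⁅v, k⁆⁻¹ * v := by rw [commutatorElement_def]; group

theorem c1_comm_le (b : Tq J V) (b' : Tq J V') (n : ¬ V ≤ 𝐂(V')) : ⁅V, J⁆ ≤ ⁅V, V'⁆ :=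
  commutator_le.2 fun v hv r hr => by
    obtain ⟨w, hw, e, he, rfl⟩ := b.mul_dec b' n hr
    have := commutator_mem_commutator hv hw
    rwa [commutatorElement_def, ← mul_inv_eq_iff_eq_mul.2
      (mem_centralizer_iff.1 he.2 _ (inv_mem hv)).symm, show v * w * (e * v⁻¹ * e⁻¹) * w⁻¹ = ⁅v, w * e⁆ by
        simp only [commutatorElement_def]; group] at this

theorem c1_sq (b : Tq J V) (b' : Tq J V') (n : ¬ V ≤ 𝐂(V')) : ∀ s ∈ J, s ^ 2 ∈ J ⊓ 𝐂(V) := fun s hs => by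
  obtain ⟨w, hw, e, he, rfl⟩ := b.mul_dec b' n hs
  have := mul_mem (conj_mem_of_norm (b.norm_E (b'.le hw)) he) he
  rwa [inv_eq_of_mul_eq_one_right (el_sq b'.el hw), mul_assoc, ← pow_two] at this

omit [Finite X] in
theorem c1_nc (n : ¬ V ≤ 𝐂(V')) (c : X) : ¬ c ⋆ V ≤ 𝐂(c ⋆ V') := by
  rwa [← conj_centralizer, conj_le_conj_iff]

section pair
variable (b : Bq J V g) (b' : Bq J V' g') (n : ¬ V ≤ 𝐂(V'))
include b b' n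

/-- `Bq.side_eq` for the blocks `V'` and `V`. -/
theorem tri (u : Tq J U) : U ≤ 𝐂(V) ⊓ 𝐂(V') ∨ (¬ V' ≤ 𝐂(U) ∧ J ⊓ 𝐂(U) = J ⊓ 𝐂(V)) ∨
    (¬ V ≤ 𝐂(U) ∧ J ⊓ 𝐂(U) = J ⊓ 𝐂(V')) := by
  by_cases h1 : V' ≤ 𝐂(U)
  · by_cases h2 : V ≤ 𝐂(U)
    · exact .inl (le_inf (cent_symm h2) (cent_symm h1))
    · exact .inr (.inr ⟨h2, b.side_eq u b'.toTq h2 n⟩)
  · exact .inr (.inl ⟨h1, b'.side_eq u b.toTq h1 fun e => n (cent_symm e)⟩)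

/-- `J = V' E` (`Tq.mul_dec`). -/
theorem comm_eq : ⁅V, J⁆ = ⁅V, V'⁆ ∧ ⁅V', J⁆ = ⁅V, V'⁆ := by
  refine ⟨le_antisymm (c1_comm_le b.toTq b'.toTq n) (commutator_mono le_rfl b'.le), ?_⟩
  rw [commutator_comm V V']
  exact le_antisymm (c1_comm_le b'.toTq b.toTq fun e => n (cent_symm e)) (commutator_mono le_rfl b.le)

/-- For `v ∈ V`, `v' ∈ V'`, `k ∈ K`: `k v k⁻¹ = v u`, `k v' k⁻¹ = v' u'` with `u, u' ∈ U` (`Tor.cg`), and `U` is abelian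
and centralizes `V`, `V'`. -/
theorem cent_of_far (u : Tq J U) (t : Tor J U K) (e : U ≤ 𝐂(V) ⊓ 𝐂(V')) : K ≤ 𝐂(⁅V, J⁆) := by
  rw [(comm_eq b b' n).1]
  refine fun k hk => le_cent1_iff.1 (commutator_le.2 fun v hv w hw => c1_fix ?_)
  have h1 := inv_mem (t.cg v ⟨b.le hv, cent_symm (e.trans inf_le_left) hv⟩ k hk)
  have h2 := inv_mem (t.cg w ⟨b'.le hw, cent_symm (e.trans inf_le_right) hw⟩ k hk)
  rw [c1_cj, c1_cj k w]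
  exact c1_cm b'.toTq (u.le h1) (u.le h2) (b.le hv) hw (e h1).2
    (mem_cent.1 (mul_mem (u.self_cent h1) (cent_symm (e.trans inf_le_left) hv)) _ h2).symm

/-- `c` normalizes `E`, so `c v c⁻¹ ∈ 𝐂(E)`; `c v' c⁻¹ = v' e`, `c v c⁻¹ = v e'` with `e, e' ∈ E ⊓ E'`, and
`⁅c ⋆ V, J⁆ ≤ 𝐂(J)`. -/
theorem cent_of_triv (hc : c ∈ 𝐍(J)) (e : ∀ s ∈ J, ⁅s, c⁆ ∈ 𝐂(V) ⊓ 𝐂(V')) : c ∈ 𝐂(⁅V, J⁆) := by
  rw [(comm_eq b b' n).1]
  refine le_cent1_iff.1 (commutator_le.2 fun v hv w hw => c1_fix ?_)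
  have m : ∀ s ∈ J, ⁅s, c⁆⁻¹ ∈ J := fun s hs => by
    have := mul_mem (conj_mem_of_norm hc hs) (inv_mem hs)
    rwa [c1_cj, mul_inv_cancel_right] at this
  have nE : c ∈ 𝐍(J ⊓ 𝐂(V)) := mem_normalizer_of_conj_le (conj_le_iff.2 fun s hs => by
    rw [c1_cj]; exact mul_mem (mem_inf.2 ⟨m s hs.1, inv_mem (mem_inf.1 (e s hs.1)).1⟩) hs)
  have h1 : c * v * c⁻¹ ∈ 𝐂(J ⊓ 𝐂(V)) :=
    conj_mem_of_norm (norm_cent (zpowers_le.2 nE) (mem_zpowers c)) (cent_symm inf_le_right hv)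
  have h2 := mem_cent.1 h1 _ (mem_inf.2 ⟨m w (b'.le hw), inv_mem (mem_inf.1 (e w (b'.le hw))).1⟩)
  rw [c1_cj] at h2
  rw [c1_cj, c1_cj c w]
  exact c1_cm b'.toTq (m v (b.le hv)) (m w (b'.le hw)) (b.le hv) hw (inv_mem (mem_inf.1 (e v (b.le hv))).2) h2.symm

/-- A torus on the side of `V`. `K` normalizes `E`, hence `E'` (`side_eq` for the block `V` with `V'`, `k ⋆ V'`).
`t2`, `ab` give the claims on `J / E`; `J = U E'` (`Tq.le_sup`), `U ⊓ E' ≤ 𝐂(J)`, `t1`, `ab` give those on `J / E'`. -/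
theorem near (u : Tq J U) (t : Tor J U K) (n' : ¬ V' ≤ 𝐂(U)) (e : J ⊓ 𝐂(U) = J ⊓ 𝐂(V)) :
    ⁅U, J⁆ = ⁅V, J⁆ ∧ ∀ E ∈ ({J ⊓ 𝐂(V), J ⊓ 𝐂(V')} : Set (Subgroup X)), K ≤ 𝐍(E) ∧ ⁅J, ⁅K, K⁆⁆ ≤ E ∧
      ∀ s ∈ J, ∀ r ∈ J, s ∉ E → r ∉ E → ∃ k ∈ K, (k * s * k⁻¹)⁻¹ * r ∈ E := by
  have n2 : ¬ U ≤ 𝐂(V') := fun e => n' (cent_symm e)
  have kE : K ≤ 𝐍(J ⊓ 𝐂(V)) := e ▸ norm_inf t.nR (norm_cent t.nV)
  have kE' : K ≤ 𝐍(J ⊓ 𝐂(V')) := fun k hk => norm_of_conj_eq (by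
    rw [conj_E (t.nR hk)]
    refine b.side_eq (b'.conj' (t.nR hk)).toTq b'.toTq (fun c => n (cent_symm ?_)) n
    have := le_inf (b'.conj' (t.nR hk)).le (cent_symm c)
    rw [← conj_eq_of_norm (kE hk), conj_le_conj_iff] at this
    exact this.trans inf_le_right)
  refine ⟨le_antisymm ((u.comm_le b'.toTq n2).trans ((comm_eq b b' n).2.trans (comm_eq b b' n).1.symm).le)
    (((comm_eq b b' n).1.trans (comm_eq b b' n).2.symm).le.trans (b'.toTq.comm_le u n')), ?_⟩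
  rintro _ (rfl | rfl)
  · refine ⟨kE, ?_, fun s hs r hr s1 r1 => ?_⟩
    · rw [← e]
      exact le_inf (comm_le_left ((der_le K).trans t.nR)) ((commutator_mono le_rfl t.ab).trans
        (comm_le_right (norm_cent u.nV)))
    · rw [← e] at s1 r1 ⊢
      obtain ⟨k, hk, a⟩ := t.t2 s hs r hr (fun c => s1 ⟨hs, c⟩) fun c => r1 ⟨hr, c⟩
      exact ⟨k, hk, mem_inf.2 ⟨mul_mem (inv_mem (conj_mem_of_norm (t.nR hk) hs)) hr, a⟩⟩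
  · refine ⟨kE', (commutator_mono (b'.toTq.le_sup u n') le_rfl).trans (comm_sup_le (u.le.trans b'.toTq.norm_E)
      (le_norm _) ((comm_eq_bot_iff'.2 t.ab).le.trans bot_le) (comm_le_left ((der_le K).trans kE'))),
      fun s hs r hr s1 r1 => ?_⟩
    obtain ⟨w, hw, d, hd, rfl⟩ := b'.toTq.mul_dec u n' hs
    obtain ⟨w', hw', d', hd', rfl⟩ := b'.toTq.mul_dec u n' hr
    obtain ⟨k, hk, a⟩ := t.t1 w hw w' hw' (fun c => s1 (mul_mem ⟨u.le hw, cent_anti b'.le c⟩ hd))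
      fun c => r1 (mul_mem ⟨u.le hw', cent_anti b'.le c⟩ hd')
    refine ⟨k, hk, ?_⟩
    have := mul_mem (mul_mem (inv_mem (conj_mem_of_norm (kE' hk) hd)) (mem_inf.2
      ⟨mul_mem (inv_mem (conj_mem_of_norm (t.nR hk) (u.le hw))) (u.le hw'), cent_anti b'.le a⟩)) hd'
    convert this using 1; group

theorem c1_or (u : Tq J U) (t : Tor J U K) : K ≤ 𝐂(⁅V, J⁆) ∨
    ⁅U, J⁆ = ⁅V, J⁆ ∧ ∀ E ∈ ({J ⊓ 𝐂(V), J ⊓ 𝐂(V')} : Set (Subgroup X)), K ≤ 𝐍(E) ∧ ⁅J, ⁅K, K⁆⁆ ≤ E ∧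
      ∀ s ∈ J, ∀ r ∈ J, s ∉ E → r ∉ E → ∃ k ∈ K, (k * s * k⁻¹)⁻¹ * r ∈ E := by
  rcases tri b b' n u with e | ⟨n', e⟩ | ⟨n', e⟩
  · exact .inl (cent_of_far b b' n u t e)
  · exact .inr (near b b' n u t n' e)
  · have := near b' b (fun e => n (cent_symm e)) u t n' e
    rw [Set.pair_comm, (comm_eq b b' n).2, ← (comm_eq b b' n).1] at this
    exact .inr this

theorem c1_norm (u : Tq J U) (t : Tor J U K) : K ≤ 𝐍(⁅V, J⁆) :=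
  (c1_or b b' n u t).elim norm_of_cent fun e => e.1 ▸ norm_comm t.nV t.nR

/-- Each `K_i` normalizes `Z₁`. If one of them centralizes `Z₁` we are done. Otherwise `near` (for the pair `V, V'`
or `V', V`), `comm_le_of_trans` with `D = K₁ ⊔ K₂` on `J / E` and `J / E'` (squares: `J = V' E`), `cent_of_triv`. -/
theorem comm_cent (u₁ : Tq J U₁) (t₁ : Tor J U₁ K₁) (u₂ : Tq J U₂) (t₂ : Tor J U₂ K₂)
    (hs : Group.IsSolvable ↥(K₁ ⊔ K₂)) : K₁ ≤ 𝐍(⁅V, J⁆) ∧ ⁅K₁, K₂⁆ ≤ 𝐂(⁅V, J⁆) := by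
  refine ⟨c1_norm b b' n u₁ t₁, ?_⟩
  rcases c1_or b b' n u₁ t₁ with e₁ | ⟨-, e₁⟩
  · exact (commutator_mono e₁ le_rfl).trans (comm_le_left (norm_cent (c1_norm b b' n u₂ t₂)))
  rcases c1_or b b' n u₂ t₂ with e₂ | ⟨-, e₂⟩
  · exact (commutator_mono le_rfl e₂).trans (comm_le_right (norm_cent (c1_norm b b' n u₁ t₁)))
  have k : ∀ E ∈ ({J ⊓ 𝐂(V), J ⊓ 𝐂(V')} : Set (Subgroup X)), Nml E J → (∀ s ∈ J, s ^ 2 ∈ E) →
      ⁅J, ⁅K₁, K₂⁆⁆ ≤ E := fun E hE h1 h2 =>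
    comm_le_of_trans hs le_sup_left le_sup_right (sup_le t₁.nR t₂.nR) (sup_le (e₁ E hE).1 (e₂ E hE).1) h1 h2
      (e₁ E hE).2.2 (e₂ E hE).2.2 (e₁ E hE).2.1 (e₂ E hE).2.1
  have k1 := k _ (.inl rfl) ⟨inf_le_left, b.toTq.norm_E⟩ (c1_sq b.toTq b'.toTq n)
  have k2 := k _ (.inr rfl) ⟨inf_le_left, b'.toTq.norm_E⟩ (c1_sq b'.toTq b.toTq fun e => n (cent_symm e))
  exact fun c hc => cent_of_triv b b' n (comm_le_of_le t₁.nR t₂.nR hc) fun s hs =>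
    ⟨(k1 (commutator_mem_commutator hs hc)).2, (k2 (commutator_mem_commutator hs hc)).2⟩

end pair

variable (h : GP N A) (hJ : J ≤ N) (aJ : A ≤ 𝐍(J)) (b : Bq J V g)
include h hJ aJ b

/-- Suppose not, `V' = x ⋆ V`, `|J : E'| = 2`. `os` in `U = ncl V A ⊔ Y` modulo `Y = J ⊓ 𝐂(J)` for `v ∈ V ∖ 𝐂(J)`
(`v ∉ E'` by `Tq.inf_le`): if `a v a⁻¹ ∉ E'` then `a ⋆ V` is on the side of `V` (`tri`), so `v⁻¹ a v a⁻¹ ∈ E'` centralizes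
`E` and `V'`, hence `J`. So `v ∈ E'`. -/
theorem c1_two (e : 𝐂(V).relIndex J = 2) (hx : x ∈ A) : V ≤ 𝐂(x ⋆ V) := by
  by_contra n
  have b' := b.conj' (aJ hx)
  have n' : ¬ x ⋆ V ≤ 𝐂(V) := fun e => n (cent_symm e)
  have e' := (b.toTq.idx_eq b'.toTq n).trans e
  obtain ⟨v, hv, v1⟩ := SetLike.not_le_iff_exists.1 b.nc
  have v2 : v ∉ 𝐂(x ⋆ V) := fun c => v1 (b'.toTq.inf_le b.toTq n' ⟨hv, c⟩)
  have jY : J ≤ 𝐍(J ⊓ 𝐂(J)) := norm_center (le_norm J)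
  have aY : A ≤ 𝐍(J ⊓ 𝐂(J)) := norm_center aJ
  have wJ : ncl V A ⊔ J ⊓ 𝐂(J) ≤ J := sup_le (ncl_le b.le aJ) inf_le_left
  refine v2 (os (U := J ⊓ 𝐂(x ⋆ V)) (h.sub (wJ.trans hJ) (norm_sup (norm_ncl V A) aY)) ⟨le_sup_right, wJ.trans jY⟩ aY
    ((commutator_mono le_rfl wJ).trans (comm_sup_le ((ncl_le b.le aJ).trans jY) (le_norm _)
      (comm_ncl_le aJ aY (b.le.trans jY) (le_inf (comm_le_of_le b.le le_rfl) b.quad)) (comm_le_left jY)))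
    (inf_le_inf_left J (cent_anti b'.le)) (mem_sup_left (le_ncl V A hv)) fun a ha => ?_).2
  have ba := b.conj' (aJ ha)
  have m : a * v * a⁻¹ ∈ a ⋆ V := conj_mem_conj.2 hv
  refine or_iff_not_imp_right.2 fun c => ?_
  have c' : a * v * a⁻¹ ∉ 𝐂(x ⋆ V) := fun d => c ⟨ba.le m, d⟩
  rcases tri b b' n ba.toTq with d | ⟨-, d⟩ | ⟨-, d⟩
  · exact absurd (d m).2 c'
  · refine mem_inf.2 ⟨mul_mem (inv_mem (b.le hv)) (ba.le m), cent_anti (b.toTq.le_sup b'.toTq n) ?_⟩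
    rw [cent_sup]
    refine mem_inf.2 ⟨end_two e' (inv_mem (b.le hv)) (ba.le m) (fun d => v2 (inv_mem_iff.1 d)) c',
      mul_mem (inv_mem (cent_symm inf_le_right hv)) ?_⟩
    rw [← d]
    exact cent_symm inf_le_right m
  · exact absurd (d.le (ba.toTq.le_E m)) c

/-- Suppose not. `tr` with `Z = ncl Z₁ A ≤ J ⊓ 𝐂(J)`. By `comm_cent` for the pairs `c ⋆ V`, `(c x) ⋆ V` (`c ∈ A`), the
groups `a ⋆ K` normalize `Z` and their commutators centralize `Z`. Each `c ⋆ Z₁` equals `Z₁` or is centralized by `K`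
(`tri`, `near`, `cent_of_far`), so `Z ≤ Z₁ ⊔ Z ⊓ 𝐂(K)` and `t3` gives the transitivity. `t4`, `c1_two`. -/
theorem c1 (hs : Group.IsSolvable N) (t : Tor J V K) (hK : K ≤ N) (hx : x ∈ A) : V ≤ 𝐂(x ⋆ V) := by
  by_contra n
  refine t.t4.elim (fun e => n (c1_two h hJ aJ b e hx)) fun ⟨k, hk, y, hy, e⟩ => e ?_
  have ta : ∀ a ∈ A, Tor J (a ⋆ V) (a ⋆ K) := fun a ha => by
    have := t.conj a
    rwa [conj_eq_of_norm (aJ ha)] at this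
  have cz : ∀ c ∈ A, c ⋆ ⁅V, J⁆ = ⁅c ⋆ V, J⁆ := fun c hc => by rw [conj_commutator, conj_eq_of_norm (aJ hc)]
  have cc : ∀ c ∈ A, ∀ a ∈ A, a ⋆ K ≤ 𝐍(c ⋆ ⁅V, J⁆) ∧ ⁅a ⋆ K, K⁆ ≤ 𝐂(c ⋆ ⁅V, J⁆) := fun c hc a ha => by
    rw [cz c hc]
    exact comm_cent (b.conj' (aJ hc)) ((b.conj' (aJ hx)).conj' (aJ hc)) (c1_nc n c) (b.conj' (aJ ha)).toTq (ta a ha)
      b.toTq t (sol_of_le hs (sup_le (conj_le_of_norm hK (h.norm ha)) hK))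
  have zY : ncl ⁅V, J⁆ A ≤ J ⊓ 𝐂(J) := ncl_le (le_inf (comm_le_of_le b.le le_rfl) b.quad) (norm_center aJ)
  have ab := abelian_of_le (abelian_center J) zY
  have kZ : ∀ a ∈ A, a ⋆ K ≤ 𝐍(ncl ⁅V, J⁆ A) := fun a ha m hm => mem_normalizer_of_conj_le
    (conj_le_iff_le_inv_conj.2 (ncl_le_iff.2 fun c hc => conj_le_iff_le_inv_conj.1 (by
      rw [conj_eq_of_norm ((cc c hc a ha).1 hm)]; exact conj_le_ncl _ hc)))
  have kZ1 : K ≤ 𝐍(ncl ⁅V, J⁆ A) := by simpa only [conj_one] using kZ 1 (one_mem A)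
  have zz : ncl ⁅V, J⁆ A ≤ ⁅V, J⁆ ⊔ ncl ⁅V, J⁆ A ⊓ 𝐂(K) := ncl_le_iff.2 fun c hc => by
    rcases c1_or (b.conj' (aJ hc)) ((b.conj' (aJ hx)).conj' (aJ hc)) (c1_nc n c) b.toTq t with d | ⟨d, -⟩
    · exact (le_inf (conj_le_ncl _ hc) (cent_symm (by rwa [cz c hc]))).trans le_sup_right
    · rw [cz c hc, ← d]; exact le_sup_left
  have nz : ⁅V, J⁆ ≤ 𝐍(ncl ⁅V, J⁆ A ⊓ 𝐂(K)) := (le_ncl _ A).trans (abelian_norm ab inf_le_left)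
  refine tr h ((zY.trans inf_le_left).trans hJ) hK ab (norm_ncl _ A) kZ1 (fun a ha m hm => ?_)
    (fun y hy z hz y1 z1 => ?_) k hk y (le_ncl _ A hy)
  · refine mem_normalizer_of_conj_le (conj_le_iff.2 fun z hz => ⟨conj_mem_of_norm (kZ a ha hm) hz.1,
      mem_cent.2 fun l hl => ?_⟩)
    have h1 : ⁅m⁻¹, l⁆ ∈ 𝐂(ncl ⁅V, J⁆ A) := cent_symm (ncl_le_iff.2 fun c hc => cent_symm (cc c hc a ha).2)
      (commutator_mem_commutator (inv_mem hm) hl)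
    have h2 := mem_cent.1 h1 z hz.1
    have h3 := mem_cent.1 hz.2 l hl
    calc l * (m * z * m⁻¹) = m * (⁅m⁻¹, l⁆ * (l * z)) * m⁻¹ := by rw [commutatorElement_def]; group
      _ = m * (z * ⁅m⁻¹, l⁆ * l) * m⁻¹ := by rw [h3, h2]; group
      _ = _ := by rw [commutatorElement_def]; group
  · obtain ⟨y₁, a1, y₂, a2, rfl⟩ := (mem_sup_right_norm nz).1 (zz hy)
    obtain ⟨z₁, c1, z₂, c2, rfl⟩ := (mem_sup_right_norm nz).1 (zz hz)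
    obtain ⟨l, hl, d⟩ := t.t3 y₁ a1 z₁ c1 (fun c => y1 (mul_mem c a2.2)) fun c => z1 (mul_mem c c2.2)
    refine ⟨l, hl, ?_⟩
    have := mul_mem (mul_mem (inv_mem (conj_mem_of_norm (norm_cent (le_norm K) hl) a2.2)) d) c2.2
    convert this using 1; group

end Cfsg.Lib.NF
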