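import Cfsg.Agent.Lib.NF.GK

/-!
# Operator groups without fixed points that are extensions of a coprime group by a nilpotent group
-/

set_option autoImplicit false

namespace Cfsg.Lib.NF

open Subgroup Cfsg.Lib.BG Cfsg.Lib.Transfer Cfsg.Lib.FH

variable {G : Type*} [Group G] {N F M B : Subgroup G} {g : G}

/-- `F = K H` with `K` normal of order prime to `|N|` and `H` nilpotent. -/
structure CK (N F : Subgroup G) : Prop extends GP N F where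
  ex : ∃ K H : Subgroup G, K ⊔ H = F ∧ (Nat.card K).Coprime (Nat.card N) ∧ Group.IsNilpotent H ∧ H ≤ 𝐍(K)

theorem CK.conj (h : CK N F) (hg : g ∈ 𝐍(N)) : CK N (g ⋆ F) := by
  obtain ⟨K, H, e, c, n, m⟩ := h.ex
  exact ⟨h.toGP.conj hg, g ⋆ K, g ⋆ H, by rw [← conj_sup, e], by rwa [card_conj], (nil_conj g).2 n, map_norm _ m⟩

variable [Finite G]

theorem CK.quo (h : CK N F) (hM : Nml M N) (hF : F ≤ 𝐍(M)) : CK (quo N M) (quo F M) := by
  obtain ⟨K, H, rfl, c, n, m⟩ := h.ex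
  exact ⟨h.toGP.quo hM hF, BG.quo K M, BG.quo H M, (quo_sup (le_sup_left.trans hF) (le_sup_right.trans hF)).symm,
    (c.coprime_dvd_left (card_quo_dvd _ _)).coprime_dvd_right (card_quo_dvd _ _), nil_quo n M, quo_norm m M⟩

theorem CK.sub' (h : CK N F) (hM : M ≤ N) (hB : B ≤ F) (n1 : B ≤ 𝐍(M)) (f : M ⊓ 𝐂(B) = ⊥) : CK M B := by
  obtain ⟨K, H, rfl, c, n, m⟩ := h.ex
  have k : K ⊔ H ≤ 𝐍(K) := sup_le (le_norm K) m
  obtain ⟨E, h1, h2, h3⟩ := exists_nil_supp (M := K) (Y := B) (nil_of_le n (inf_le_left : H ⊓ (K ⊔ B) ≤ H))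
    (inf_le_left.trans m) (by rw [← modular_left le_sup_left m, inf_eq_right.2 (sup_le le_sup_left hB)])
  have e : K ⊓ B ⊔ E = B := by
    rw [← modular_right h1 ((h1.trans hB).trans k), h3, ← modular_left le_sup_left m,
      inf_eq_right.2 (sup_le le_sup_left hB), inf_eq_right.2 le_sup_right]
  have c' := coprime_mono c (inf_le_left : K ⊓ B ≤ K) hM
  have m' : E ≤ 𝐍(K ⊓ B) := norm_inf ((h1.trans hB).trans k) (h1.trans (le_norm B))
  refine ⟨?_, K ⊓ B, E, e, c', h2, m'⟩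
  have := gp_of_cop c' h2 m' (e.symm ▸ n1) (e.symm ▸ f) (e.symm ▸ eq_bot_mono h.disj (inf_le_inf hM hB))
  rwa [e] at this

theorem CK.sub (h : CK N F) (hM : M ≤ N) (hF : F ≤ 𝐍(M)) : CK M F :=
  h.sub' hM le_rfl hF (eq_bot_mono h.fpf (inf_le_inf_right _ hM))

theorem ck_of_fp (h : FP N F) : CK N F :=
  ⟨gp_of_fp h, ⊥, F, bot_sup_eq F, by rw [card_bot]; exact Nat.coprime_one_left _, h.nil, le_normalizer_of_normal⟩

theorem ck_of_cop {K H : Subgroup G} (hc : (Nat.card K).Coprime (Nat.card N)) (hH : Group.IsNilpotent H)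
    (hK : H ≤ 𝐍(K)) (h1 : K ⊔ H ≤ 𝐍(N)) (h2 : N ⊓ 𝐂(K ⊔ H) = ⊥) (h3 : N ⊓ (K ⊔ H) = ⊥) : CK N (K ⊔ H) :=
  ⟨gp_of_cop hc hH hK h1 h2 h3, K, H, rfl, hc, hH, hK⟩

end Cfsg.Lib.NF
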