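import Cfsg.Agent.Lib.NF.Defs
import Cfsg.Agent.Lib.FQ.End
import Cfsg.Agent.Lib.FH.C

/-!
# Control of strong fusion: two swapped sides
-/

set_option autoImplicit false
set_option linter.unusedSectionVars false

namespace Cfsg.Lib.NF

open Subgroup Cfsg.Lib.BG Cfsg.Lib.Transfer Cfsg.Lib.Loc Cfsg.Lib.PLocal Cfsg.Lib.CGT Cfsg.Lib.PU Cfsg.Lib.FQ
open scoped commutatorElement

variable {G : Type*} [Group G] [Finite G] {A J M N P S T : Subgroup G} {Λ : Subgroup (MulAut G)}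
  {Fm : G → G → Prop} {a g u z : G}

theorem end_mem_im {α : MulAut G} {U : Subgroup G} {x : G} : α x ∈ im α U ↔ x ∈ U :=
  mem_map_iff_mem (f := (α : G →* G)) α.injective

theorem end_im_mul (α β : MulAut G) (U : Subgroup G) : im (α * β) U = im α (im β U) :=
  (map_map U (α : G →* G) (β : G →* G)).symm

theorem end_im_inf (α : MulAut G) (U W : Subgroup G) : im α (U ⊓ W) = im α U ⊓ im α W := map_inf U W _ α.injective

theorem end_im_cent1 (α : MulAut G) (x : G) : im α 𝐂[x] = 𝐂[α x] := by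
  ext y
  obtain ⟨y, rfl⟩ := α.surjective y
  rw [end_mem_im]
  exact (mem_cent1_map (f := (α : G →* G)) α.injective).symm

theorem end_exists_le (l : Lo S M) (hY : IsPGroup 2 T) : ∃ c, T ≤ c ⋆ S :=
  (SylIn.exists_le l.syl hY le_top).imp fun _ => And.right

/-- The images `α z` commute (`Pw.l4`) and generate an abelian group `V ≤ S`. Let `D` be given by `Pw.sq` for `(z, u)`.
If `α z ≠ z` then `α z = c²` (`exists_cz`, `cz_sq`) with `c ∈ S ⊓ 𝐂[z] ⊓ 𝐂[u]` (`l3a`, `l3c`, as `key` in `Pw.l4`), so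
`α z ∈ D`. `FH.orbit_prod` gives a fixed point `x ∈ V` with `z⁻¹ x ∈ D`; `x = 1`, so `z ∈ D`. -/
theorem pw_false (h : Pw S Fm) (cl : ∀ α ∈ Λ, ∀ z u, Fm z u → Fm (α z) (α u))
    (f : ∀ s ∈ S, (∀ α ∈ Λ, α s = s) → s = 1) (e : Fm z u) : False := by
  obtain ⟨D, nD, H⟩ := h.sq _ _ e
  set V := closure (Set.range fun α : Λ => α.1 z) with hV
  have VS : V ≤ S := (closure_le _).2 (by rintro _ ⟨α, rfl⟩; exact (h.mem _ _ (cl _ α.2 _ _ e)).1)
  have ab : IsMulCommutative V := isMulCommutative_closure (by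
    rintro _ ⟨α, rfl⟩ _ ⟨β, rfl⟩
    exact h.l4 (cl _ α.2 _ _ e) (cl _ β.2 _ _ e))
  have iv : ∀ α ∈ Λ, ∀ v ∈ V, α v ∈ V := fun α hα v hv =>
    (show V ≤ V.comap (α : G →* G) from (closure_le _).2 (by
      rintro _ ⟨β, rfl⟩
      exact subset_closure ⟨⟨α, hα⟩ * β, rfl⟩)) hv
  let φ : Λ →* MulAut V :=
    { toFun := fun α =>
        { toFun := fun v => ⟨α.1 v, iv _ α.2 _ v.2⟩
          invFun := fun v => ⟨α.1⁻¹ v, iv _ (inv_mem α.2) _ v.2⟩
          left_inv := fun v => Subtype.ext (α.1.symm_apply_apply v)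
          right_inv := fun v => Subtype.ext (α.1.apply_symm_apply v)
          map_mul' := fun v w => Subtype.ext (map_mul α.1 _ _) }
      map_one' := rfl
      map_mul' := fun _ _ => rfl }
  open scoped IsMulCommutative in
  obtain ⟨x, h1, h2⟩ := FH.orbit_prod φ ⊤ (D.subgroupOf V) ⟨z, subset_closure ⟨1, rfl⟩⟩ fun α _ => by
    refine (em (α.1 z = z)).imp Subtype.ext fun n => ?_
    have a := cl _ α.2 _ _ e
    obtain ⟨c, hc⟩ := h.exists_cz a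
    obtain ⟨_, c₂⟩ := h.exists_cz e
    change α.1 z ∈ D
    rw [← (h.cz_sq hc).2.1]
    exact H c ⟨⟨(h.cz_sq hc).1, mem_cent1.2 (h.l3a (Ne.symm n) (h.l4 e a) c₂ hc).symm⟩,
      mem_cent1.2 (h.l3c (Ne.symm n) (h.l4 e a) e hc).symm⟩
  have h3 := f x (VS x.2) fun α hα => congrArg Subtype.val (h1 ⟨α, hα⟩ (mem_top _))
  replace h2 : z⁻¹ * x ∈ D := h2
  rw [h3, mul_one, inv_mem_iff] at h2
  exact nD h2

/-- As `FQ.Tw.pw` with automorphisms in place of `𝐍(S)`: `S ⊓ 𝐂[α z] ⊓ 𝐂[α u] = im α (𝐐 P)`. For `inj` put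
`γ = α⁻¹ β`; it fixes `z` and leaves `𝐐 P` invariant, so `γ g ∈ 𝐍(𝐐 P)`, and `Tw.orb` applies to `k = γ g`. -/
theorem tw_pw (h : Tw J A T P N g a) (hz : ⁅𝐘 P, J⁆ = zpowers z) (z1 : z ≠ 1) (z2 : z * z = 1) (zg : z ∉ 𝐂[g])
    (hS : IsPGroup 2 S) (h1 : T ≤ S) (h2 : a ∈ S) :
    Pw S fun s t => ∃ α : MulAut G, im α S = S ∧ α z = s ∧ α (g * z * g⁻¹) = t := by
  obtain ⟨uV, uJ⟩ := h.u_not hz z1 z2 zg
  have zV := (h.z_mem hz).1
  have VS : 𝐘 P ≤ S := h.bq.le.trans (h.J_le.trans h1)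
  have E : ∀ α : MulAut G, im α S = S → S ⊓ 𝐂[α z] ⊓ 𝐂[α (g * z * g⁻¹)] = im α (𝐐 P) := fun α hα => by
    rw [← h.cent_eq hz z1 z2 zg hS h1, end_im_inf, end_im_inf, hα, end_im_cent1, end_im_cent1]
  refine ⟨hS, ?_, ?_, ?_, ?_, ?_⟩
  · rintro n hn _ _ ⟨α, hα, rfl, rfl⟩
    exact ⟨MulAut.conj n * α, by rw [end_im_mul, hα]; exact conj_eq_of_norm hn, rfl, rfl⟩
  · rintro _ _ ⟨α, hα, rfl, rfl⟩
    refine ⟨hα ▸ end_mem_im.2 (VS zV), hα ▸ end_mem_im.2 (VS uV), by rw [← map_mul, z2, map_one], ?_,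
      by simpa using z1, ?_⟩
    · rw [← map_mul, el_sq h.bq.el uV, map_one]
    · rw [← map_mul, ← map_mul, cnt_comm h.bq.el zV uV]
  · rintro _ _ ⟨α, hα, rfl, rfl⟩
    refine ⟨α (a * (g * z * g⁻¹) * a⁻¹), ⟨α * MulAut.conj a, ?_, ?_, rfl⟩, ?_, fun x hx => ?_⟩
    · rw [end_im_mul]
      exact (congrArg (im α) (conj_eq_of_mem h2)).trans hα
    · exact congrArg α (h.az hz z1 z2)
    · rw [← map_commutatorElement, h.comm_eq hz z1 z2 zg uV uJ]
    · rw [E α hα] at hx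
      obtain ⟨y, hy, rfl⟩ := hx
      obtain ⟨k, hk⟩ := h.comm_mem hz z1 z2 zg (h.Q_le hy)
      exact ⟨k, by
        change α z ^ k = ⁅α y, _⁆
        rw [← map_commutatorElement, ← hk, map_zpow]⟩
  · rintro _ _ ⟨α, hα, rfl, rfl⟩
    refine ⟨im α 𝐂[g], mt end_mem_im.1 zg, fun x hx => ?_⟩
    rw [E α hα] at hx
    obtain ⟨y, hy, rfl⟩ := hx
    rw [← map_mul]
    exact mem_map_of_mem _ (sq_mem h.bq.el (Tw.cQ hy) (h.cq _ hy))
  · rintro _ _ _ ⟨α, hα, rfl, rfl⟩ ⟨β, hβ, e, rfl⟩ k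
    have le : im α (𝐐 P) ≤ im β (𝐐 P) := by
      rw [← E α hα, ← E β hβ, e]
      exact le_inf inf_le_left k
    have l := eq_of_le_of_card_ge le (by
      rw [card_map_of_injective (f := (α : G →* G)) α.injective,
        card_map_of_injective (f := (β : G →* G)) β.injective])
    have l1 : im (α⁻¹ * β) (𝐐 P) = 𝐐 P := by
      rw [end_im_mul, ← l, ← end_im_mul, inv_mul_cancel]
      exact Subgroup.map_id _
    have l2 : (α⁻¹ * β) g ∈ 𝐍(𝐐 P) := by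
      have := le_normalizer_map ((α⁻¹ * β : MulAut G) : G →* G) (mem_map_of_mem _ (le_normalizer_core 2 P h.gP))
      rwa [show Subgroup.map _ (𝐐 P) = _ from l1] at this
    have l3 : (α⁻¹ * β) z = z := by
      change α.symm (β z) = z
      rw [e, α.symm_apply_apply]
    have q : β (g * z * g⁻¹) = α ((α⁻¹ * β) g * z * ((α⁻¹ * β) g)⁻¹) := by
      conv_rhs => rw [← l3, ← map_inv, ← map_mul, ← map_mul]
      exact (α.apply_symm_apply _).symm
    rw [← map_mul, q]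
    refine (h.orb hz z1 z2 zg l2 fun c => zg (mem_cent1.2 ?_)).imp (fun c => by rw [c]) fun c => by rw [c]
    rw [c, ← e, β.injective.eq_iff, mul_inv_eq_iff_eq_mul] at q
    exact q.symm

/-- As `FQ.Tw.false`. -/
theorem tw_false (h : Tw J A T P N g a) (l : Lo S M) : False := by
  obtain ⟨z, z1, z2, zg, hz⟩ := h.exists_z
  obtain ⟨c, hc⟩ := end_exists_le l (pgroup_sup h.pm.pgroup ((PGroup.elemAb_isPGroup h.el).to_le (zpowers_le.2 h.aA))
    (zpowers_le.2 h.nT))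
  obtain ⟨Λ, o⟩ := l.op c
  refine pw_false (tw_pw h hz z1 z2 zg (l.syl.conj c).2.1 (le_sup_left.trans hc) (hc (mem_sup_right (mem_zpowers a))))
    (Λ := Λ) ?_ o.fpf ⟨1, Subgroup.map_id _, rfl, rfl⟩
  rintro α hα _ _ ⟨β, hβ, rfl, rfl⟩
  exact ⟨α * β, by rw [end_im_mul, hβ, o.inv α hα], rfl, rfl⟩

end Cfsg.Lib.NF
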