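import Cfsg.Agent.Lib.NF.Bas

/-!
# Control of strong fusion: extremal configurations
-/

set_option autoImplicit false
set_option linter.unusedSectionVars false

namespace Cfsg.Lib.NF

open Subgroup Cfsg.Lib.BG Cfsg.Lib.Transfer Cfsg.Lib.Loc Cfsg.Lib.PLocal Cfsg.Lib.CGT Cfsg.Lib.PU Cfsg.Lib.FQ
open scoped commutatorElement

variable {G : Type*} [Group G] [Finite G] {D M S T W : Subgroup G} {a b x : G}

/-- Strong fusion is not controlled at `D`. -/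
def Bad (S M D : Subgroup G) : Prop := ∃ a b : G, D ≤ a ⋆ S ∧ D ≤ b ⋆ S ∧ ¬ Ev M D a b

theorem Bad.exists_max (h : Bad S M D) : ∃ E, D ≤ E ∧ Bad S M E ∧ ∀ D', Bad S M D' → E ≤ D' → D' ≤ E := by
  obtain ⟨E, h1, h2⟩ := Finite.exists_le_maximal h
  exact ⟨E, h1, h2.1, fun D' a b => h2.2 a b⟩

/-- Suppose `Ev M D x (n x)` for all `n ∈ 𝐍(D)`. Let `D ≤ a ⋆ S`. If `D = a ⋆ S` then `D = x ⋆ S`. Otherwise
`D < D₁ = a ⋆ S ⊓ 𝐍(D) ≤ n ⋆ T ≤ (n x) ⋆ S` is not bad. In both cases `Ev M D x a`. -/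
theorem Bad.cf (l : Lo S M) (h : Bad S M D) (hm : ∀ D', Bad S M D' → D ≤ D' → D' ≤ D)
    (hT : SylIn 2 T 𝐍(D)) (hx : T ≤ x ⋆ S) : Cf S M x D T := by
  obtain ⟨a, b, ha, hb, ab⟩ := h
  have hD : IsPGroup 2 D := (isPGroup_conj l.syl.2.1 a).to_le ha
  have dT := syl_norm_le hD hT
  refine ⟨hD, hT, hx, by_contra fun hn => ?_⟩
  push Not at hn
  have key : ∀ a : G, D ≤ a ⋆ S → Ev M D x a := fun a ha => by
    have s := l.syl.conj_mem (mem_top a)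
    have p1 : IsPGroup 2 ↥(a ⋆ S ⊓ 𝐍(D)) := s.2.1.to_le inf_le_left
    have d1 : D ≤ a ⋆ S ⊓ 𝐍(D) := le_inf ha (le_norm D)
    obtain ⟨n, hn', h2⟩ := SylIn.exists_le hT p1 inf_le_right
    have h3 : a ⋆ S ⊓ 𝐍(D) ≤ (n * x) ⋆ S := by
      rw [← conj_conj]; exact h2.trans (conj_mono n hx)
    by_cases e : Ev M (a ⋆ S ⊓ 𝐍(D)) (n * x) a
    · exact (hn n hn').trans (e.anti d1)
    · have e1 := eq_of_norm_le s.2.1 ha (hm _ ⟨_, _, h3, inf_le_left, e⟩ d1)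
      exact l.ev_of_eq (s.eq_of_le (isPGroup_conj l.syl.2.1 x) le_top (e1.ge.trans (dT.trans hx))).symm
  exact ab ((key a ha).symm.trans (key b hb))

/-- As `FQ.exists_max`: maximize `(rk T, |𝐉 T|, |𝐁 T|)` over all `T` with `∃ x W, Cf S M x W T`, and conjugate. -/
theorem exists_max (h : ∃ x W T, Cf S M x W T) : ∃ W₀ T₀, Cf S M 1 W₀ T₀ ∧
    (∀ x W T, Cf S M x W T → 𝐉 T₀ ≤ T → 𝐉 T = 𝐉 T₀) ∧ ∀ x W T, Cf S M x W T → 𝐁 T₀ ≤ T → 𝐁 T = 𝐁 T₀ := by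
  obtain ⟨T₁, ⟨x₁, W₁, h1⟩, hm⟩ := Set.exists_max_image {T : Subgroup G | ∃ x W, Cf S M x W T}
    (fun T => toLex (FQ.rk T, toLex (Nat.card (𝐉 T), Nat.card (𝐁 T)))) (Set.toFinite _)
    (let ⟨x, W, T, a⟩ := h; ⟨T, x, W, a⟩)
  simp only [Prod.Lex.toLex_le_toLex] at hm
  have h0 := h1.conj x₁⁻¹
  rw [inv_mul_cancel] at h0
  have q1 : FQ.rk T₁ = FQ.rk (x₁⁻¹ ⋆ T₁) := (FQ.rk_conj _ _).symm
  have q2 : Nat.card (𝐉 T₁) = Nat.card (𝐉 (x₁⁻¹ ⋆ T₁)) := by rw [← conj_thompsonSubgroupOf, card_conj]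
  have q3 : Nat.card (𝐁 T₁) = Nat.card (𝐁 (x₁⁻¹ ⋆ T₁)) := by
    rw [← CS.map_baum (MulAut.conj x₁⁻¹).injective, card_conj]
  rw [q1, q2, q3] at hm
  generalize x₁⁻¹ ⋆ T₁ = T₀ at h0 hm
  have key : ∀ u W T, Cf S M u W T → 𝐉 T₀ ≤ T → 𝐉 T = 𝐉 T₀ ∧ FQ.rk T = FQ.rk T₀ := fun u W T c l => by
    have m := hm _ ⟨_, _, c⟩
    obtain ⟨A, hA⟩ := exists_mem_maxIn 2 T
    obtain ⟨A₀, hA₀⟩ := exists_mem_maxIn 2 T₀
    have r : FQ.rk T₀ ≤ FQ.rk T := by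
      rw [← card_eq_rk hA, ← card_eq_rk hA₀]
      exact hA.2.2 _ ((le_thompsonSubgroupOf hA₀).trans l) hA₀.2.1
    obtain ⟨r', m'⟩ := m.resolve_left r.not_gt
    refine ⟨(eq_of_le_of_card_le (thompsonSubgroupOf_le_iff.2 fun C hC => le_thompsonSubgroupOf
      (mem_maxIn_of_card_le hA ((le_thompsonSubgroupOf hC).trans l) hC.2.1 ?_))
      (m'.elim le_of_lt fun e => e.1.le)).symm, r'⟩
    rw [card_eq_rk hA, card_eq_rk hC, r']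
  refine ⟨_, T₀, h0, fun u W T c l => (key u W T c l).1, fun u W T c l => ?_⟩
  obtain ⟨e, r⟩ := key u W T c ((thompson_le_baum T₀).trans l)
  have m := ((hm _ ⟨_, _, c⟩).resolve_left r.not_lt).2
  rw [e] at m
  have z : zj 2 T = zj 2 T₀ := by rw [zj, centerThompsonOf, e, zj, centerThompsonOf]
  exact (eq_of_le_of_card_le (le_inf l (z ▸ inf_le_right)) (m.resolve_left (lt_irrefl _)).2).symm

/-- As `FQ.Lo.g1`. Take a maximal bad `D ≥ J`, `T₁` Sylow in `𝐍(D)`; `Bad.cf` and `hj` give `𝐉 T₁ = J = 𝐉 D`,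
`𝐍(D) ≤ 𝐍(J)`. Take `T₂ ≥ T₁` Sylow in `𝐍(J)`, `T₂ ≤ v ⋆ S`. `Cf S M v D T₁` gives `n ∈ 𝐍(D)` with `¬ Ev M D v (n v)`,
`v ⋆ 𝛀 S ≤ J` (`Z_le`), so `down` gives `Cf S M v J T₂`, `𝐉 T₂ = J`, `T₂ = v ⋆ S`, and `v⁻¹ n v ∈ 𝐍(𝐉 S) ≤ M`. -/
theorem Lo.g1 (l : Lo S M) {J : Subgroup G} (hj : ∀ x W T, Cf S M x W T → J ≤ T → 𝐉 T = J) (h1 : J ≤ D) :
    ¬ Bad S M D := by
  intro b
  obtain ⟨E, jD, hD, hm⟩ := b.exists_max
  replace jD := h1.trans jD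
  clear b h1
  have pE : IsPGroup 2 E := let ⟨a, _, e, _⟩ := hD; (isPGroup_conj l.syl.2.1 a).to_le e
  have pJ := pE.to_le jD
  obtain ⟨T₁, dT, hT⟩ := exists_sylIn_ge pE (le_norm E)
  obtain ⟨u, hu⟩ := l.exists_le hT.2.1
  have j1 := hj u _ _ (hD.cf l hm hT hu) (jD.trans dT)
  have nD : 𝐍(E) ≤ 𝐍(J) := by
    have := normalizer_le_normalizer_thompsonSubgroupOf (e := 2) E
    rwa [thompsonSubgroupOf_eq_of_le (j1.le.trans jD) dT, j1] at this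
  obtain ⟨T₂, t12, hT₂⟩ := exists_sylIn_ge hT.2.1 (hT.1.trans nD)
  obtain ⟨v, hv⟩ := l.exists_le hT₂.2.1
  have c1 := hD.cf l hm hT (t12.trans hv)
  have z1 : v ⋆ 𝛀 S ≤ J := j1 ▸ (l.Z_le hT pE c1.le).trans inf_le_left
  obtain ⟨n, hn, e⟩ := c1.nle
  have eS : E ≤ v ⋆ S := dT.trans c1.le
  have c2 : Cf S M v J T₂ := ⟨pJ, hT₂, hv, n, nD hn, fun f => e (l.down f z1 eS (by
    rw [← conj_conj, ← conj_eq_of_norm hn]; exact conj_mono n eS))⟩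
  have j2 := hj v _ _ c2 c2.W_le
  have n2 : 𝐍(T₂) ≤ 𝐍(J) := j2 ▸ normalizer_le_normalizer_thompsonSubgroupOf T₂
  have s := l.syl.conj_mem (mem_top v)
  have e1 := eq_of_norm_le s.2.1 hv (hT₂.eq_of_le (s.2.1.to_le inf_le_left) (inf_le_right.trans n2)
    (le_inf hv (le_norm _))).ge
  refine e (ev_of_mem (l.nJ ?_))
  have := nD hn
  rw [← j2, e1, ← conj_thompsonSubgroupOf, ← conj_normalizer, mem_conj] at this
  rwa [← mul_assoc]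

theorem Lo.exists_xt (l : Lo S M) (h : Bad S M D) : ∃ J B, Xt S M J B := by
  obtain ⟨E, -, hE, hm⟩ := h.exists_max
  have pE : IsPGroup 2 E := let ⟨a, _, e, _⟩ := hE; (isPGroup_conj l.syl.2.1 a).to_le e
  obtain ⟨T, -, hT⟩ := exists_sylIn_ge pE (le_norm E)
  obtain ⟨x, hx⟩ := l.exists_le hT.2.1
  obtain ⟨W, T, a, b, c⟩ := exists_max ⟨_, _, _, hE.cf l hm hT hx⟩
  exact ⟨_, _, l, fun D u v e e1 e2 => by_contra fun n => l.g1 b e ⟨u, v, e1, e2, n⟩, b, c,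
    ⟨W, T, a, inf_le_left⟩, thompson_le_baum T⟩

end Cfsg.Lib.NF
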