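import Cfsg.Agent.Lib.NF.Out
import Cfsg.Agent.Lib.NF.Max
import Cfsg.Agent.Lib.NF.End
import Cfsg.Agent.Lib.FQ.Flow

/-!
# Control of strong fusion

Notation of the docstrings: `E = J ⊓ 𝐂(V)`. The proofs are those of `FQ/Flow`.
-/

set_option autoImplicit false
set_option linter.unusedSectionVars false

namespace Cfsg.Lib.NF

open Subgroup Cfsg.Lib.BG Cfsg.Lib.Transfer Cfsg.Lib.Loc Cfsg.Lib.PLocal Cfsg.Lib.CGT Cfsg.Lib.PU Cfsg.Lib.FQ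
open scoped commutatorElement

variable {G : Type*} [Group G] [Finite G] {A B D J K M R S V W Y : Subgroup G} {Λ : Subgroup (MulAut G)}
  {a g x : G}

/-- `U = J ⊓ 𝐂(ncl V Y)`, as `FQ.Xt.orbit`. -/
theorem orbit (b : Bq J V g) (hY : Y ≤ 𝐍(J)) (e : ∀ x ∈ Y, V ≤ 𝐂(x ⋆ V)) :
    ∃ U ≤ J, J ⊓ 𝐂(J) ≤ U ∧ J ≤ 𝐍(U) ∧ Y ≤ 𝐍(U) ∧ g ∈ 𝐍(U) := by
  have nJ : J ≤ 𝐍(ncl V Y) := fun j hj => mem_normalizer_of_conj_le (conj_le_iff_le_inv_conj.2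
    (ncl_le_iff.2 fun x hx => conj_le_iff_le_inv_conj.1 (by
      rw [conj_eq_of_norm ((b.conj' (hY hx)).nV hj)]; exact conj_le_ncl V hx)))
  exact ⟨J ⊓ 𝐂(ncl V Y), inf_le_left, inf_le_inf_left J (cent_anti (ncl_le b.le hY)),
    norm_inf (le_norm J) (norm_cent nJ), norm_inf hY (norm_cent (norm_ncl V Y)),
    b.mem_norm (le_inf b.le (cent_symm (ncl_le_iff.2 fun x hx => cent_symm (e x hx))))
      (inf_le_inf_left J (cent_anti (le_ncl V Y)))⟩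

/-- Copy of `FQ.Xt.norm_le'`. -/
theorem norm_le' (b : Bq J V g) (ha : a ∈ 𝐍(J)) (n : ¬ V ≤ 𝐂(a ⋆ V)) :
    𝐍(J) ⊓ 𝐍(J ⊓ 𝐂(V)) ≤ 𝐍(a ⋆ (J ⊓ 𝐂(V))) := fun m hm => by
  have k := mul_mem hm.1 ha
  have n' : ¬ V ≤ 𝐂((m * a) ⋆ V) := fun e => n (cent_symm (le_trans ?_ (inf_le_right : J ⊓ 𝐂(V) ≤ _)))
  · have s := b.side_eq (b.conj' k).toTq (b.conj' ha).toTq n' n
    rw [← conj_E k, ← conj_E ha, ← conj_conj] at s
    exact norm_of_conj_eq s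
  rw [← conj_le_conj_iff (g := m), conj_eq_of_norm hm.2, conj_conj]
  exact le_inf (b.conj' k).le (cent_symm e)

namespace Xt

variable (h : Xt S M J B) (b : Bq J V g) (hg : Hg M J g)
include h b hg

/-- The automorphisms leave `J = 𝐉 Y` invariant (`map_thompsonSubgroupOf`). By `Op.c1`, `V` commutes with its images;
`U = J ⊓ 𝐂(⨆ α ∈ Λ, im α V)` is invariant, contains `V` and `J ⊓ 𝐂(J)`, lies in `E` and is normalized by `J`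
(`tq_map`); `l2` with `D = J` contradicts `hg` (`Bq.mem_norm`). -/
theorem case1 (t : Tor J V K) (o : Op Y Λ) (e : 𝐉 Y = J) : False := by
  have iJ : ∀ α ∈ Λ, im α J = J := fun α hα => by
    rw [← e, im, map_thompsonSubgroupOf α.injective]; exact congrArg 𝐉 (o.inv α hα)
  have XJ : ⨆ α : Λ, im α V ≤ J := iSup_le fun α => (map_mono b.le).trans (iJ _ α.2).le
  have nX : J ≤ 𝐍((⨆ α : Λ, im α V : Subgroup G)) := fun j hj => mem_normalizer_of_conj_le (by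
    rw [conj_iSup]
    exact iSup_mono fun α => (conj_eq_of_norm (BG.map_norm _ b.nV ((iJ _ α.2).ge hj))).le)
  have iX : ∀ β ∈ Λ, im β (⨆ α : Λ, im α V) = ⨆ α : Λ, im α V := fun β hβ =>
    eq_of_le_of_card_ge (by
      rw [im, Subgroup.map_iSup]
      exact iSup_le fun α => le_iSup_of_le (⟨β, hβ⟩ * α) (by rw [im, map_map]; rfl))
      (card_map_of_injective β.injective).ge
  have n : g ∈ 𝐍(J ⊓ 𝐂((⨆ α : Λ, im α V : Subgroup G))) :=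
    b.mem_norm (le_inf b.le (cent_symm (iSup_le fun α => cent_symm (o.c1 V g K (e ▸ b) (e ▸ t) _ α.2))))
      (inf_le_inf_left J (cent_anti (le_iSup_of_le 1 (map_id V).ge)))
  refine hg _ inf_le_left (inf_le_inf_left J (cent_anti XJ)) n (h.l2 o inf_le_left le_rfl (h.JB.trans h.B_le)
    (norm_inf (le_norm J) (norm_cent nX)) (fun β hβ => eq_of_le_of_card_ge (le_inf
      ((map_mono inf_le_left).trans (iJ β hβ).le) ?_) (card_map_of_injective β.injective).ge) n)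
  have := BG.map_cent (β : G →* G) (inf_le_right : J ⊓ 𝐂((⨆ α : Λ, im α V : Subgroup G)) ≤ _)
  rwa [show Subgroup.map (β : G →* G) (⨆ α : Λ, im α V) = _ from iX β hβ] at this

/-- As `FQ.Xt.exists_a`, `exists_ge` with `D = J`. -/
theorem exists_a (hR : IsPGroup 2 R) (h1 : J ≤ R) (h2 : R ≤ 𝐍(J)) (hA : A ∈ maxIn 2 R) (n : ¬ A ≤ J) :
    ∃ a ∈ A, ¬ V ≤ 𝐂(a ⋆ V) := by
  by_contra! e
  obtain ⟨U, k1, k2, k3, k4, k5⟩ := orbit b (hA.1.trans h2) e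
  obtain ⟨x, T, l, k⟩ := h.exists_ge k1 le_rfl (h.JB.trans h.B_le) (hR.to_le (sup_le h1 hA.1)) le_sup_left
    (sup_le k3 k4) k5 (hg U k1 k2 k5)
  have j := h.jj _ _ _ k (le_sup_left.trans l)
  obtain ⟨A', hA'⟩ := exists_mem_maxIn 2 T
  exact n (j ▸ le_thompsonSubgroupOf (mem_maxIn_of_card_le hA' (le_sup_right.trans l) hA.2.1
    (hA.2.2 _ (((le_thompsonSubgroupOf hA').trans j.le).trans h1) hA'.2.1)))

/-- As `FQ.Xt.exists_T`. The lemma `FQ.Xt.norm_le'` has to be copied without its first hypothesis. -/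
theorem exists_T (hR : IsPGroup 2 R) (h1 : B ≤ R) (h2 : R ≤ 𝐍(J)) (h3 : B ≤ 𝐍(V)) (ha : a ∈ R)
    (a2 : a * a = 1) (n : ¬ V ≤ 𝐂(a ⋆ V)) : ∃ x T, Cf S M x (J ⊓ 𝐂(V)) T ∧ B ≤ T ∧ a ∈ 𝐍(T) ∧
      R ⊓ 𝐍(J ⊓ 𝐂(V)) ≤ T ∧ SylIn 2 T (𝐍(J) ⊓ 𝐍(J ⊓ 𝐂(V))) := by
  have aN : a ∈ 𝐍(𝐍(J) ⊓ 𝐍(J ⊓ 𝐂(V))) := norm_of_conj_eq (eq_of_le_of_card_le (by
    rw [conj_inf, conj_normalizer, conj_normalizer, conj_eq_of_norm (h2 ha)]
    exact le_inf inf_le_left (norm_le' b (h2 ha) n)) (card_conj _ _).le).symm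
  have bN : B ≤ 𝐍(J) ⊓ 𝐍(J ⊓ 𝐂(V)) := le_inf h.B_norm (norm_inf h.B_norm (norm_cent h3))
  obtain ⟨T', l, hT'⟩ := exists_sylIn_ge (hR.to_le inf_le_left)
    (inf_le_right : R ⊓ ((𝐍(J) ⊓ 𝐍(J ⊓ 𝐂(V))) ⊔ zpowers a) ≤ _)
  have hT := SylIn.inf_norm hT' le_sup_left (sup_le_norm_left (zpowers_le.2 aN))
  have bT : B ≤ T' ⊓ (𝐍(J) ⊓ 𝐍(J ⊓ 𝐂(V))) := le_inf ((le_inf h1 (bN.trans le_sup_left)).trans l) bN
  obtain ⟨x, T, l', k⟩ := h.exists_ge inf_le_left le_rfl (h.JB.trans h.B_le) hT.2.1 (h.JB.trans bT)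
    (hT.1.trans inf_le_right) b.norm_E (hg _ inf_le_left (inf_le_inf_left J (cent_anti b.le)) b.norm_E)
  have j := h.jj _ _ _ k ((h.JB.trans bT).trans l')
  have e := hT.eq_of_le k.syl.2.1 (le_inf ((le_norm T).trans
    (j ▸ normalizer_le_normalizer_thompsonSubgroupOf T)) k.syl.1) l'
  refine ⟨x, _, e ▸ k, bT, zpowers_le.1 (norm_inf (le_norm_of_le (zpowers_le.2 (l ⟨ha, mem_sup_right
    (mem_zpowers a)⟩))) (zpowers_le.2 aN)), fun r hr => ?_, hT⟩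
  exact ⟨l ⟨hr.1, mem_sup_left ⟨h2 hr.1, hr.2⟩⟩, h2 hr.1, hr.2⟩

/-- As `FQ.Xt.exists_tw`; the field `cz` is `Ot.cz`. -/
theorem exists_tw (hR : IsPGroup 2 R) (h1 : B ≤ R) (h2 : R ≤ 𝐍(J)) (h3 : B ≤ 𝐍(V)) (hA : A ∈ maxIn 2 R)
    (ha : a ∈ A) (n : ¬ V ≤ 𝐂(a ⋆ V)) : ∃ T P N g', Tw J A T P N g' a := by
  have aJ := h2 (hA.1 ha)
  obtain ⟨x, T, k, bT, aT, rT, hT⟩ := h.exists_T b hg hR h1 h2 h3 (hA.1 ha) (el_sq hA.2.1 ha) n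
  obtain ⟨P, N, V₀, g₀, K₀, o⟩ := h.out k bT
  have jT := h.JB.trans bT
  have j := h.jj _ _ _ k jT
  have eQ : J ⊓ 𝐂(V) ≤ 𝐐 P := le_core (k.W_le.trans o.pm.leP) o.nW k.pg
  have eY : J ⊓ 𝐂(V) ≤ 𝐂(𝐘 P) := eQ.trans (le_centralizer_oz _)
  have qT : 𝐐 P ≤ T := core_le_of_not_dvd o.pm.syl
  have b' := b.conj' aJ
  have n' : ¬ a ⋆ V ≤ 𝐂(V) := fun e => n (cent_symm e)
  have n₀ : ¬ a ⋆ V ≤ 𝐂(V₀) := fun e => o.bq.nc (cent_symm ((b.toTq.le_sup b'.toTq n).trans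
    (sup_le e (eY.trans (cent_anti o.le)))))
  have s := b'.side_eq b.toTq o.bq.toTq n' n₀
  have e1 : J ⊓ 𝐂(𝐘 P) = J ⊓ 𝐂(V) :=
    le_antisymm ((inf_le_inf_left J (cent_anti o.le)).trans s.ge) (le_inf inf_le_left eY)
  have yJ : 𝐘 P ≤ J := by
    obtain ⟨A₀, hA₀, n₁⟩ : ∃ A₀ ∈ maxIn 2 J, ¬ A₀ ≤ 𝐂(V) := by
      by_contra! c; exact b.nc (cent_symm (h.JJ.ge.trans (thompsonSubgroupOf_le_iff.2 c)))
    have r := b.toTq.repl hA₀ n₁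
    obtain ⟨A', hA'⟩ := exists_mem_maxIn 2 T
    exact fun v hv => r.1 (mem_of_mem_maxIn (mem_maxIn_of_exists_le hA' ((le_thompsonSubgroupOf hA').trans j.le)
      jT r) (qT (oz_le _ hv)) (cent_symm ((sup_le (inf_le_inf_right _ hA₀.1) b.toTq.le_E).trans eY) hv)
      ((oz_elemAb _).2 v hv))
  have bq := o.bq.enlarge (fun e => o.bq.nc (cent_symm (h.JJ.ge.trans e))) o.le yJ (oz_elemAb _)
    ((jT.trans o.pm.leP).trans (norm_Y 2 P)) (s.ge.trans eY)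
  refine ⟨T, P, N, g₀, o.pm, o.cz, o.gP, o.gM, j, bq,
    fun x hx => o.le (o.cq x hx), e1 ▸ hT, hA.2.1, hA.1.trans h2,
    fun D hD => hA.2.2 D (hD.trans (sup_le (h.JB.trans h1) hA.1)), ha, aT,
    e1 ▸ (inf_le_inf_right _ hA.1).trans rT, fun e => bq.nc ?_⟩
  rw [← conj_le_conj_iff (g := a), conj_centralizer, conj_eq_of_norm aJ]
  refine (le_cent_sup (((le_inf (conj_le_of_norm yJ aJ) (cent_symm e)).trans e1.le).trans inf_le_right) ?_).trans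
    (cent_anti (b'.toTq.le_sup b.toTq n'))
  rw [← conj_E aJ, ← conj_centralizer]
  exact conj_mono a (cent_symm eY)

omit b hg in
/-- As `FQ.Xt.false`. -/
theorem false : False := by
  obtain ⟨W, T, k, hB⟩ := h.ex
  obtain ⟨P, N, V, g, K, o⟩ := h.out k hB
  obtain ⟨R, bR, hR⟩ := exists_sylIn_ge h.pgB h.B_norm
  by_cases e : 𝐉 R ≤ J
  · obtain ⟨c, hc⟩ := h.toLo.exists_le hR.2.1
    have l := isPGroup_conj h.syl.2.1 c
    have j : 𝐉 R = J := by rw [← thompsonSubgroupOf_eq_of_le e (h.JB.trans bR), h.JJ]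
    have e' := eq_of_norm_le l hc (hR.eq_of_le (l.to_le inf_le_left)
      (inf_le_right.trans (j ▸ normalizer_le_normalizer_thompsonSubgroupOf R)) (le_inf hc (le_norm _))).ge
    obtain ⟨Λ, o'⟩ := h.op c
    exact h.case1 o.bq o.hg o.tor o' (e' ▸ j)
  rw [thompsonSubgroupOf_le_iff] at e
  push Not at e
  obtain ⟨A, hA, n⟩ := e
  obtain ⟨a, ha, n'⟩ := h.exists_a o.bq o.hg hR.2.1 (h.JB.trans bR) hR.1 hA n
  obtain ⟨T', P', M', g', t⟩ := h.exists_tw o.bq o.hg hR.2.1 bR hR.1 o.nV hA ha n'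
  exact tw_false t h.toLo

end Xt

theorem Lo.ev {b : G} (h : Lo S M) (h1 : D ≤ a ⋆ S) (h2 : D ≤ b ⋆ S) : Ev M D a b :=
  by_contra fun e => let ⟨_, _, k⟩ := h.exists_xt ⟨a, b, h1, h2, e⟩; k.false

/-- `D = ⟨x⟩ ≤ S ⊓ g⁻¹ ⋆ S`, so `g⁻¹ = c m` and `g x g⁻¹ = m⁻¹ x m`. -/
theorem Lo.closed (h : Lo S 𝐍(W)) (hW : W ≤ S) (hx : x ∈ W) (h1 : g * x * g⁻¹ ∈ S) : g * x * g⁻¹ ∈ W := by
  obtain ⟨c, hc, m, hm, e⟩ := h.ev (D := zpowers x) (a := 1) (b := g⁻¹)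
    (zpowers_le.2 ((conj_one S).ge (hW hx))) (zpowers_le.2 (by rw [Transfer.mem_conj, inv_inv]; exact h1))
  have e' : g = m⁻¹ * c⁻¹ := by rw [← inv_inv g, e]; group
  have k := mem_centralizer_iff.1 hc x (mem_zpowers x)
  rw [e', show m⁻¹ * c⁻¹ * x * (m⁻¹ * c⁻¹)⁻¹ = m⁻¹ * (c⁻¹ * (x * c)) * m by group, k, inv_mul_cancel_left]
  exact conj_mem_of_norm' hm hx

end Cfsg.Lib.NF
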