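import Cfsg.Agent.Lib.NF.Tor

/-!
# Control of strong fusion: definitions

`S` is a Sylow 2-subgroup, `𝐍(𝐉 S) ≤ M`, and the aim is that `M` controls strong fusion in `S`. An element `a`
stands for the pair `a ⋆ S ≤ a ⋆ M`.
-/

set_option autoImplicit false

namespace Cfsg.Lib.NF

open Subgroup Cfsg.Lib.BG Cfsg.Lib.Transfer Cfsg.Lib.Loc Cfsg.Lib.PLocal Cfsg.Lib.CGT Cfsg.Lib.PU Cfsg.Lib.FQ
open scoped commutatorElement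

variable {G : Type*} [Group G]

/-- The image of a subgroup under an automorphism. -/
abbrev im (α : MulAut G) (U : Subgroup G) : Subgroup G := U.map (α : G →* G)

/-- `a ⋆ M` and `b ⋆ M` are conjugate under `𝐂(D)`, compatibly with the elements. -/
def Ev (M D : Subgroup G) (a b : G) : Prop := ∃ c ∈ 𝐂(D), ∃ m ∈ M, b = c * a * m

/-- A group of automorphisms that leaves `S` invariant and has no fixed points on it. -/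
structure Op (S : Subgroup G) (Λ : Subgroup (MulAut G)) : Prop where
  inv : ∀ α ∈ Λ, im α S = S
  fpf : ∀ s ∈ S, (∀ α ∈ Λ, α s = s) → s = 1
  tf : ∀ U T : Subgroup G, IsPGroup 2 U → U ≠ ⊥ → (∀ α ∈ Λ, im α U = U) → SylIn 2 T 𝐍(U) →
    𝐍(U) ≤ 𝐂(U) ⊔ 𝐍(U) ⊓ 𝐍(𝐉 T) ⊔ 𝐍(U) ⊓ 𝐂(𝛀 T)
  c1 : ∀ (V : Subgroup G) (g : G) (K : Subgroup G), Bq (𝐉 S) V g → Tor (𝐉 S) V K → ∀ α ∈ Λ, V ≤ 𝐂(im α V)

/-- The local hypotheses. -/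
structure Lo (S M : Subgroup G) : Prop where
  syl : SylIn 2 S ⊤
  nJ : 𝐍(𝐉 S) ≤ M
  cz : ∀ g ∈ 𝐂(𝛀 S), ∀ U ≤ S, g ⋆ U ≤ S → ∃ m ∈ M, m⁻¹ * g ∈ 𝐂(U)
  op : ∀ c : G, ∃ Λ, Op (c ⋆ S) Λ

/-- A configuration. -/
structure Cf (S M : Subgroup G) (x : G) (W T : Subgroup G) : Prop where
  pg : IsPGroup 2 W
  syl : SylIn 2 T 𝐍(W)
  le : T ≤ x ⋆ S
  nle : ∃ n ∈ 𝐍(W), ¬ Ev M W x (n * x)

/-- The Thompson and Baumann subgroups of an extremal configuration. -/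
structure Xt (S M J B : Subgroup G) : Prop extends Lo S M where
  g1 : ∀ D a b, J ≤ D → D ≤ a ⋆ S → D ≤ b ⋆ S → Ev M D a b
  jj : ∀ x W T, Cf S M x W T → J ≤ T → 𝐉 T = J
  bb : ∀ x W T, Cf S M x W T → B ≤ T → 𝐁 T = B
  ex : ∃ W T, Cf S M 1 W T ∧ B ≤ T
  JB : J ≤ B

/-- `g` is not in `𝐂(U) M` for the subgroups `U` between `Z(J)` and `J` that it normalizes. -/
def Hg (M J : Subgroup G) (g : G) : Prop := ∀ U ≤ J, J ⊓ 𝐂(J) ≤ U → g ∈ 𝐍(U) → ¬ Ev M U 1 g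

/-- The output of the pushing up step in a configuration. -/
structure Ot (M J B W T P N V : Subgroup G) (g : G) (K : Subgroup G) : Prop where
  pm : PMin 2 T N P
  nW : P ≤ 𝐍(W)
  cz : P ⊓ 𝐂(𝐘 P ⊓ 𝐂(T)) ≤ N
  gP : g ∈ P
  gM : g ∉ N
  bq : Bq J V g
  nV : B ≤ 𝐍(V)
  le : V ≤ 𝐘 P
  cq : ∀ x ∈ 𝐐 P, ⁅x, g⁆ ∈ V
  hg : Hg M J g
  tor : Tor J V K

end Cfsg.Lib.NF
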