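import Cfsg.Agent.Lib.S4F.Count
import Cfsg.Agent.Lib.Comp.Dihedral

/-!
# Dihedral configurations
-/

set_option autoImplicit false
set_option linter.unusedSectionVars false

namespace Cfsg.Lib.NF

open Subgroup Cfsg.Lib.BG Cfsg.Lib.Transfer Cfsg.Lib.S4F
open scoped commutatorElement

variable {X : Type*} [Group X] {B H Q R R₀ : Subgroup X} {a x : X}

/-- `a ∈ B` inverts the element `x` of odd order, and a hyperplane of `B` centralizes `x` modulo `Q`. -/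
structure Dh (Q B : Subgroup X) (a x : X) : Prop where
  aB : a ∈ B
  odd : Odd (orderOf x)
  inv : a * x * a⁻¹ = x⁻¹
  idx : (cm Q x).relIndex B = 2
  na : a ∉ cm Q x
  xQ : x ∈ 𝐍(Q)

variable [Finite X]

theorem dh_mem_of_sq (ho : Odd (orderOf x)) (h : x ^ 2 ∈ H) : x ∈ H := by
  obtain ⟨m, e⟩ := exists_pow_eq_self_of_coprime (x := x) (n := 2) (Nat.coprime_two_left.2 ho)
  exact e ▸ pow_mem h m

/-- `a · x a x⁻¹ = x⁻²` when `a² = 1`, and `x` has odd order. -/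
theorem Dh.mem (h : Dh Q B a x) (a2 : a ^ 2 = 1) (h1 : a ∈ H) (h2 : x * a * x⁻¹ ∈ H) : x ∈ H := by
  refine dh_mem_of_sq h.odd ?_
  have e : a * (x * a * x⁻¹) = (x ^ 2)⁻¹ := by
    have : a = a⁻¹ := eq_inv_of_mul_eq_one_left (by rw [← a2, pow_two])
    calc a * (x * a * x⁻¹) = (a * x * a⁻¹) * x⁻¹ := by rw [← this]; group
      _ = (x ^ 2)⁻¹ := by rw [h.inv]; group
  exact inv_mem_iff.1 (e ▸ mul_mem h1 h2)

/-- In the quotient by `Q` the elementary abelian group `B` acts on the group `R` of odd order, which is generated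
by the centralizers of the subgroups `B₁` with `B / B₁` cyclic, so of order at most 2. The `y ∈ R` with
`⁅y, b⁆ ∈ R₀` for all `b ∈ B` form a subgroup, so there are `B₁`, `y ∈ R` with `⁅y, B₁⁆ ≤ Q` and `a ∈ B` with
`c = a y a⁻¹ y⁻¹ ∉ R₀`. `c` is a product of two involutions, so `a` inverts it; take `x = c ^ 2 ^ k` of odd order.
`x ∉ R₀` since `R / R₀` has odd order, and `a ∉ cm Q x` since otherwise `x² ∈ Q`. -/
theorem exists_dh (hQ : IsPGroup 2 Q) (hB : IsElementaryAbelian 2 B) (h0 : Q ≤ R₀) (h1 : Nml R₀ R)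
    (rQ : R ≤ 𝐍(Q)) (bQ : B ≤ 𝐍(Q)) (bR : B ≤ 𝐍(R)) (bR₀ : B ≤ 𝐍(R₀)) (odd : ¬ 2 ∣ Q.relIndex R)
    (n : ¬ ⁅R, B⁆ ≤ R₀) : ∃ a, ∃ x ∈ R, x ∉ R₀ ∧ Dh Q B a x := by
  have := Fact.mk Nat.prime_two
  have l1 : Q ≤ R ⊓ ⨅ b ∈ B, cm R₀ b :=
    le_inf (h0.trans h1.le) (le_iInf₂ fun b hb => h0.trans (le_cm (bR₀ hb)))
  have n1 : ¬ quo R Q ≤ quo (R ⊓ ⨅ b ∈ B, cm R₀ b) Q := fun e => n (commutator_le.2 fun y hy b hb =>
    (mem_cm.1 ((mem_iInf.1 (mem_iInf.1 (((quo_le_quo_iff' rQ ⟨l1, inf_le_left.trans rQ⟩).1 e hy).2) b) hb))).2)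
  have cop : (Nat.card (quo B Q)).Coprime (Nat.card (quo R Q)) := by
    obtain ⟨k, hk⟩ := (IsPGroup.iff_card (p := 2)).1 (pgroup_quo (elab_pgroup hB) Q)
    rw [hk, card_quo rQ]
    exact Nat.Coprime.pow_left k ((Nat.Prime.coprime_iff_not_dvd Nat.prime_two).2 odd)
  have := mt (Coprime.le_of_forall_hyperplane (elab_quo hB Q) (quo_norm bR Q) cop) n1
  push Not at this
  obtain ⟨Z, -, z2, z3⟩ := this
  obtain ⟨_, ⟨y1, y2⟩, y3⟩ := SetLike.not_le_iff_exists.1 z3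
  obtain ⟨y, hy, rfl⟩ := mem_quo.1 y1
  have : ∃ a ∈ B, ⁅(y : X), a⁆ ∉ R₀ := by
    by_contra! e
    exact y3 (mem_quo.2 ⟨y, ⟨hy, mem_iInf.2 fun b => mem_iInf.2 fun hb => mem_cm.2 ⟨h1.norm hy, e b hb⟩⟩, rfl⟩)
  obtain ⟨a, ha, hc⟩ := this
  have a2 : a = a⁻¹ := eq_inv_of_mul_eq_one_left (by rw [← hB.2 a ha, pow_two])
  have c1 : ⁅(y : X), a⁆ ∈ R := by
    rw [commutatorElement_def, mul_assoc, mul_assoc, ← mul_assoc a]
    exact mul_mem hy (conj_mem_of_norm (bR ha) (inv_mem hy))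
  have c2 : a * ⁅(y : X), a⁆ * a⁻¹ = ⁅(y : X), a⁆⁻¹ := by
    rw [commutatorElement_inv, commutatorElement_def, commutatorElement_def, ← a2]
    calc a * (y * a * (y : X)⁻¹ * a) * a = a * y * a * (y : X)⁻¹ * (a * a) := by group
      _ = _ := by rw [← pow_two, hB.2 a ha, mul_one]
  obtain ⟨k, m, hm, e⟩ := Nat.exists_eq_two_pow_mul_odd (orderOf_pos ⁅(y : X), a⁆).ne'
  have x1 : Odd (orderOf (⁅(y : X), a⁆ ^ 2 ^ k)) :=
    hm.of_dvd_nat (orderOf_dvd_of_pow_eq_one (by rw [← pow_mul, ← e, pow_orderOf_eq_one]))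
  have x2 : ⁅(y : X), a⁆ ^ 2 ^ k ∉ R₀ := fun f => by
    have := h1.normal
    have f1 : ⁅(y : X), a⁆ ^ R₀.relIndex R ∈ R₀ := (R₀.subgroupOf R).pow_index_mem ⟨_, c1⟩
    have f2 : (2 ^ k).Coprime (R₀.relIndex R) := Nat.Coprime.pow_left k
      ((Nat.Prime.coprime_iff_not_dvd Nat.prime_two).2 fun g => odd (g.trans (relIndex_dvd_of_le_left R h0)))
    have f3 := Nat.gcd_eq_gcd_ab (2 ^ k) (R₀.relIndex R)
    rw [f2, Nat.cast_one] at f3
    apply hc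
    rw [← zpow_one ⁅(y : X), a⁆, f3, zpow_add, zpow_mul, zpow_mul, zpow_natCast, zpow_natCast]
    exact mul_mem (zpow_mem f _) (zpow_mem f1 _)
  have x3 : a * ⁅(y : X), a⁆ ^ 2 ^ k * a⁻¹ = (⁅(y : X), a⁆ ^ 2 ^ k)⁻¹ := by
    rw [← conj_pow, c2, inv_pow]
  have x4 : a ∉ cm Q (⁅(y : X), a⁆ ^ 2 ^ k) := fun f => x2 (dh_mem_of_sq x1 (h0 (by
    have := inv_mem (mem_cm.1 f).2
    rwa [commutatorElement_def a, x3, mul_inv_rev, inv_inv, ← pow_two] at this)))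
  have x5 : copre Q Z ⊓ B ≤ cm Q (⁅(y : X), a⁆ ^ 2 ^ k) := by
    rintro b ⟨b1, b2⟩
    obtain ⟨b3, b4⟩ := mem_copre.1 b1
    have y4 : (y : X) ∈ cm Q b := by
      refine mem_cm.2 ⟨y.2, ?_⟩
      have : (⁅y, ⟨b, b3⟩⁆ : 𝐍(Q)) ∈ (qhom Q).ker := by
        rw [MonoidHom.mem_ker, map_commutatorElement, commutatorElement_eq_one_iff_mul_comm]
        exact (y2 _ b4).symm
      rw [qhom_ker] at this
      exact this
    have a4 : a ∈ cm Q b := mem_cm_of_cent (bQ ha) (mem_cent1.2 (abelian_cent hB.1 b2 a ha))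
    refine cm_symm (pow_mem ?_ _) b3
    rw [commutatorElement_def]
    exact mul_mem (mul_mem (mul_mem y4 a4) (inv_mem y4)) (inv_mem a4)
  refine ⟨a, _, pow_mem c1 _, x2, ha, x1, x3, ?_, x4, rQ (pow_mem c1 _)⟩
  have i1 : (copre Q Z).relIndex B ∣ 2 := by
    rwa [← relIndex_subgroupOf bQ, subOf_copre, relIndex_comap]
  rw [← inf_relIndex_right] at i1
  exact ((Nat.dvd_prime Nat.prime_two).1 ((relIndex_dvd_of_le_left B x5).trans i1)).resolve_left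
    fun f => x4 (relIndex_eq_one.1 f ha)

end Cfsg.Lib.NF
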