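import Cfsg.Agent.Lib.FH.A

/-!
# Operator groups without fixed points that have the property of Glauberman's lemma
-/

set_option autoImplicit false

namespace Cfsg.Lib.NF

open Subgroup Cfsg.Lib.BG Cfsg.Lib.Transfer Cfsg.Lib.FH

variable {G : Type*} [Group G] {N F M D S T : Subgroup G} {p : ℕ} {g : G}

/-- `F` acts on `N` without non-trivial common fixed points, and every supplement of an invariant subgroup `D` of
`N` in `D F` contains a `D`-conjugate of `F`. -/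
structure GP (N F : Subgroup G) : Prop where
  norm : F ≤ 𝐍(N)
  fpf : N ⊓ 𝐂(F) = ⊥
  disj : N ⊓ F = ⊥
  gl : ∀ D ≤ N, F ≤ 𝐍(D) → ∀ Γ : Subgroup G, D ⊔ Γ = D ⊔ F → ∃ d ∈ D, F ≤ d ⋆ Γ

theorem GP.sub (h : GP N F) (hM : M ≤ N) (hF : F ≤ 𝐍(M)) : GP M F :=
  ⟨hF, eq_bot_mono h.fpf (inf_le_inf_right _ hM), eq_bot_mono h.disj (inf_le_inf_right _ hM),
    fun D a => h.gl D (a.trans hM)⟩

theorem GP.self_norm (h : GP N F) : N ⊓ 𝐍(F) = ⊥ :=
  eq_bot_mono h.fpf (le_inf inf_le_left (cent_of_norm_of_disjoint inf_le_right (norm_inf h.norm (norm_norm (le_norm F)))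
    (eq_bot_mono h.disj (inf_le_inf_right _ inf_le_left))))

theorem GP.conj' (h : GP N F) (g : G) : GP (g ⋆ N) (g ⋆ F) := by
  refine ⟨map_norm _ h.norm, ?_, ?_, fun D a b Γ e => ?_⟩
  · rw [← conj_centralizer, ← conj_inf, h.fpf, Subgroup.map_bot]
  · rw [← conj_inf, h.disj, Subgroup.map_bot]
  obtain ⟨d, hd, l⟩ := h.gl (g⁻¹ ⋆ D) (conj_le_iff_le_inv_conj.2 (by rwa [inv_inv]))
    (by rw [← conj_normalizer]; exact conj_le_iff_le_inv_conj.1 b) (g⁻¹ ⋆ Γ)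
    (by rw [← conj_sup, e, conj_sup, inv_conj_conj])
  refine ⟨g * d * g⁻¹, conj_inv_conj g D ▸ conj_mem_conj.2 hd, ?_⟩
  have := conj_mono g l
  rwa [conj_conj (H := Γ), conj_conj (H := Γ), ← mul_assoc] at this

theorem GP.conj (h : GP N F) (hg : g ∈ 𝐍(N)) : GP N (g ⋆ F) := by
  have := h.conj' g
  rwa [conj_eq_of_norm hg] at this

variable [Finite G]

theorem GP.frat (h : GP N F) (hM : M ≤ N) (hF : F ≤ 𝐍(M)) (h1 : g ∈ 𝐍(M)) (h2 : g ∈ 𝐍(M ⊔ F)) :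
    ∃ m ∈ M, m * g ∈ 𝐍(F) := by
  obtain ⟨m, hm, e⟩ := h.gl M hM hF (g ⋆ F) (by rw [← conj_eq_of_norm h2, conj_sup, conj_eq_of_norm h1])
  rw [conj_conj] at e
  exact ⟨m, hm, norm_of_conj_eq (eq_of_le_of_card_le e (card_conj _ _).le).symm⟩

theorem GP.quo (h : GP N F) (hM : Nml M N) (hF : F ≤ 𝐍(M)) : GP (quo N M) (quo F M) := by
  refine ⟨quo_norm h.norm M, eq_bot_iff.2 ?_, ?_, fun D a b Γ e => ?_⟩
  · rintro _ ⟨⟨x, hx, rfl⟩, hc⟩
    have h1 : (x : G) ∈ 𝐍(M ⊔ F) := norm_of_conj_eq (by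
      rw [conj_sup, conj_eq_of_norm x.2]
      refine supp_of_quo_eq ?_ hF ?_
      · exact conj_le_of_mem hF x.2
      · rw [quo_cj x.2, conj_eq_of_cent hc])
    obtain ⟨m, hm, e⟩ := h.frat hM.le hF x.2 h1
    have h2 : m * x ∈ N ⊓ 𝐍(F) := ⟨mul_mem (hM.le hm) hx, e⟩
    rw [h.self_norm, mem_bot, mul_eq_one_iff_inv_eq] at h2
    refine mem_bot.2 ((QuotientGroup.eq_one_iff _).2 ?_)
    change (x : G) ∈ M
    exact h2 ▸ inv_mem hm
  · rw [← quo_inf_of_le_left hM.le, h.disj]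
    exact quo_eq_bot bot_le
  have m := le_copre (N := M) D
  obtain ⟨d, hd, l⟩ := h.gl (copre M D) (copre_le_of_le_quo hM a) (norm_copre hF b) (copre M Γ) (by
    rw [← copre_sup, e, copre_sup, copre_quo hF, ← sup_assoc, sup_eq_left.2 m])
  obtain ⟨n, hn⟩ := mem_copre.1 hd
  refine ⟨_, hn, ?_⟩
  have := quo_mono l M
  rwa [quo_cj n, quo_copre] at this

theorem gp_of_fp (h : FP N F) : GP N F := by
  refine ⟨h.norm, h.fpf, h.disj, fun D a b Γ e => ?_⟩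
  obtain ⟨E, h1, h2, h3⟩ := exists_nil_supp h.nil b e
  obtain ⟨n, hn, rfl⟩ := (h.sub a b).cj E h2 h3
  exact ⟨n, hn, conj_mono n h1⟩

instance gpCoe : CoeOut (FP N F) (GP N F) := ⟨gp_of_fp⟩

variable [Fact p.Prime]

variable (p) in
theorem GP.syl (h : GP N F) : ∃ S, Syl p S N ∧ F ≤ 𝐍(S) := by
  obtain ⟨D, hD⟩ := Syl.exists p N
  obtain ⟨m, hm, l⟩ := h.gl N le_rfl h.norm _ (hD.frattini ⟨le_sup_left, sup_le_norm_left h.norm⟩)
  refine ⟨m ⋆ D, hD.conj_of_mem hm, l.trans ?_⟩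
  rw [← conj_normalizer]
  exact conj_mono m inf_le_right

theorem GP.syl_uniq (h : GP N F) (hS : Syl p S N) (hT : Syl p T N) (h1 : F ≤ 𝐍(S)) (h2 : F ≤ 𝐍(T)) : S = T := by
  obtain ⟨n, hn, rfl⟩ := hT.exists_conj_eq hS
  obtain ⟨m, hm, e⟩ := h.gl _ inf_le_left (norm_inf h.norm (norm_norm h1)) (n ⋆ F)
    (supp_restrict h.norm (supp_conj rfl hn) (map_norm _ h2) h1)
  rw [conj_conj] at e
  have h3 : m * n ∈ N ⊓ 𝐍(F) :=
    ⟨mul_mem hm.1 hn, norm_of_conj_eq (eq_of_le_of_card_le e (card_conj _ _).le).symm⟩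
  rw [h.self_norm, mem_bot] at h3
  have h4 := conj_eq_of_norm hm.2
  rw [conj_conj, h3, conj_one] at h4
  exact h4.symm

/-- The invariant Sylow subgroup is invariant under everything normalizing `N` and `F`. -/
theorem GP.syl_norm (h : GP N F) (hS : Syl p S N) (h1 : F ≤ 𝐍(S)) : 𝐍(N) ⊓ 𝐍(F) ≤ 𝐍(S) := fun g hg => by
  refine norm_of_conj_eq (h.syl_uniq (hS.conj_of_norm hg.1) hS ?_ h1)
  have := map_norm (MulAut.conj g).toMonoidHom h1
  rwa [conj_eq_of_norm hg.2] at this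

end Cfsg.Lib.NF
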