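import Cfsg.Agent.Lib.NF.GP
import Cfsg.Agent.Lib.Coprime.FT

/-!
# Glauberman's lemma for an extension of a coprime operator group by a nilpotent one
-/

set_option autoImplicit false

namespace Cfsg.Lib.NF

open Subgroup Cfsg.Lib.BG Cfsg.Lib.Transfer Cfsg.Lib.FH

variable {G : Type*} [Group G] [Finite G] {N K H D Γ : Subgroup G}

/-- A coprime subgroup `B ≤ D Γ` is conjugate into `Γ` under `D`. -/
theorem gk_conj {B : Subgroup G} (h1 : Γ ≤ 𝐍(D)) (h2 : B ≤ D ⊔ Γ) (hc : (Nat.card B).Coprime (Nat.card D)) :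
    ∃ n ∈ D, n ⋆ B ≤ Γ :=
  Coprime.exists_map_conj_le_of_le_sup h1 h2 hc (Coprime.isSolvable_or_of_coprime hc)

theorem gk_supp (hc : (Nat.card K).Coprime (Nat.card D)) (hK : H ≤ 𝐍(K)) (kD : K ≤ 𝐍(D)) (hD : H ≤ 𝐍(D))
    (e : D ⊔ Γ = D ⊔ (K ⊔ H)) (kΓ : K ≤ Γ) :
    (D ⊓ 𝐂(K)) ⊔ (Γ ⊓ ((D ⊓ 𝐂(K)) ⊔ H)) = (D ⊓ 𝐂(K)) ⊔ H := by
  refine le_antisymm (sup_le le_sup_left inf_le_right) (sup_le le_sup_left fun h hh => ?_)
  have g1 : Γ ≤ 𝐍(D) := supp_norm (sup_le kD hD) e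
  obtain ⟨d, hd, γ, hγ, rfl⟩ := (mem_sup_left_norm g1).1 (e.ge (mem_sup_right (mem_sup_right hh)))
  have e1 : γ ⋆ K = d⁻¹ ⋆ K := by
    have := congrArg (d⁻¹ ⋆ ·) (conj_eq_of_norm (hK hh))
    simpa only [conj_conj, inv_mul_cancel_left] using this
  have l1 : γ ⋆ K ≤ D ⊓ Γ ⊔ K := by
    rw [← modular_right kΓ kD]
    refine le_inf ?_ (conj_le_of_mem kΓ hγ)
    rw [e1]
    exact conj_le_of_mem le_sup_right (inv_mem (mem_sup_left hd))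
  obtain ⟨n, hn, l⟩ := gk_conj (norm_inf kD (kΓ.trans (le_norm Γ))) l1 (by
    rw [card_conj]; exact hc.coprime_dvd_right (card_dvd inf_le_left))
  rw [conj_conj] at l
  have m1 : n * γ ∈ 𝐍(K) := norm_of_conj_eq (eq_of_le_of_card_le l (card_conj _ _).ge)
  have m2 : d * n⁻¹ ∈ D ⊓ 𝐍(K) := ⟨D.mul_mem hd (D.inv_mem hn.1), by
    have := mul_mem (hK hh) (inv_mem m1)
    rwa [show d * γ * (n * γ)⁻¹ = d * n⁻¹ by group] at this⟩
  have m3 : d * n⁻¹ ∈ D ⊓ 𝐂(K) := ⟨m2.1, cent_of_norm_of_disjoint (A := D ⊓ 𝐍(K)) inf_le_right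
    (norm_inf kD (norm_norm (le_norm K)))
    (eq_bot_mono (Coprime.inf_eq_bot_of_coprime' hc.symm) (inf_le_inf_right _ inf_le_left)) m2⟩
  rw [show d * γ = d * n⁻¹ * (n * γ) by group]
  refine mul_mem (mem_sup_left m3) (mem_sup_right ⟨mul_mem hn.2 hγ, ?_⟩)
  rw [show n * γ = (d * n⁻¹)⁻¹ * (d * γ) by group]
  exact mul_mem (mem_sup_left (inv_mem m3)) (mem_sup_right hh)

theorem gp_of_cop (hc : (Nat.card K).Coprime (Nat.card N)) (hH : Group.IsNilpotent H) (hK : H ≤ 𝐍(K))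
    (h1 : K ⊔ H ≤ 𝐍(N)) (h2 : N ⊓ 𝐂(K ⊔ H) = ⊥) (h3 : N ⊓ (K ⊔ H) = ⊥) : GP N (K ⊔ H) := by
  refine ⟨h1, h2, h3, fun D a b Γ e => ?_⟩
  have c : (Nat.card K).Coprime (Nat.card D) := hc.coprime_dvd_right (card_dvd a)
  have kD := le_sup_left.trans b
  have hD := le_sup_right.trans b
  obtain ⟨n, hn, l⟩ := gk_conj (supp_norm b e) ((le_sup_left.trans le_sup_right).trans e.ge) c
  have l' : K ≤ n⁻¹ ⋆ Γ := conj_le_iff_le_inv_conj.1 l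
  have f : FP (D ⊓ 𝐂(K)) H := ⟨norm_inf hD (norm_cent hK), hH, eq_bot_mono h2 (le_inf
    ((inf_le_left.trans inf_le_left).trans a) (le_cent_sup (inf_le_left.trans inf_le_right) inf_le_right))⟩
  obtain ⟨d, hd, m⟩ := (gp_of_fp f).gl _ le_rfl f.norm _ (gk_supp c hK kD hD (supp_conj e (inv_mem hn)) l')
  refine ⟨d * n⁻¹, mul_mem hd.1 (inv_mem hn), ?_⟩
  rw [← conj_conj]
  refine sup_le ?_ (m.trans (conj_mono d inf_le_left))
  rw [← conj_eq_of_cent hd.2]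
  exact conj_mono d l'

end Cfsg.Lib.NF
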