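import Cfsg.Agent.Lib.NF.GP
import Cfsg.Agent.Lib.Loc.WeakClosed
import Mathlib.Algebra.Pointwise.Stabilizer

/-!
# The property of Glauberman's lemma passes to the stabilizer of a direct factor
-/

set_option autoImplicit false

namespace Cfsg.Lib.NF

open Subgroup Cfsg.Lib.BG Cfsg.Lib.Transfer Cfsg.Lib.FH Cfsg.Lib.Loc
open scoped Pointwise

variable {X : Type*} [Group X] [Finite X] {G A N D : Subgroup X}

/-- Prescribed components in the commuting conjugates of `D`. -/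
theorem shap_crt (hA : A ≤ 𝐍(G)) (n1 : N ≤ G) (cc : ∀ a ∈ A, a ∉ 𝐍(N) → a ⋆ N ≤ 𝐂(N)) (n2 : G ≤ 𝐍(N)) (hD : D ≤ N)
    {T : Set X} (t1 : ∀ s ∈ T, s ∈ A) (t2 : ∀ s ∈ T, ∀ j ∈ T, s⁻¹ * j ∈ 𝐍(N) → s = j) (e : X → X)
    (he : ∀ s ∈ T, e s ∈ D) : ∃ d ∈ ncl D A, ∀ s ∈ T, (e s)⁻¹ * (s⁻¹ * d * s) ∈ G ⊓ 𝐂(N) := by
  classical
  suffices ∀ F : Finset X, ∃ d ∈ ncl D A, ∀ s ∈ T, (if s ∈ F then e s else 1)⁻¹ * (s⁻¹ * d * s) ∈ G ⊓ 𝐂(N) by
    have i := Fintype.ofFinite X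
    simpa only [Finset.mem_univ, if_true] using this Finset.univ
  intro F
  induction F using Finset.induction_on with
  | empty => exact ⟨1, one_mem _, fun s _ => by simp [one_mem]⟩
  | insert j F hj ih =>
  obtain ⟨d, hd, h⟩ := ih
  by_cases jT : j ∈ T
  · refine ⟨j * e j * j⁻¹ * d, mul_mem (conj_le_ncl D (t1 j jT) (conj_mem_conj.2 (he j jT))) hd, fun s hs => ?_⟩
    by_cases k : s = j
    · subst k
      have := h s hs
      rw [if_neg hj] at this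
      rw [if_pos (Finset.mem_insert_self _ _)]
      convert this using 1
      group
    · have a : s⁻¹ * j ∈ A := mul_mem (inv_mem (t1 s hs)) (t1 j jT)
      have c : s⁻¹ * j * e j * (s⁻¹ * j)⁻¹ ∈ G ⊓ 𝐂(N) := ⟨conj_mem_of_norm (hA a) (n1 (hD (he j jT))),
        cc _ a (fun l => k (t2 s hs j jT l)) (conj_mem_conj.2 (hD (he j jT)))⟩
      have m : (if s ∈ F then e s else 1) ∈ 𝐍(G ⊓ 𝐂(N)) := norm_inf (le_norm G) (norm_cent n2) (by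
        split_ifs
        exacts [n1 (hD (he s hs)), one_mem _])
      simp only [Finset.mem_insert, k, false_or]
      convert mul_mem (conj_mem_of_norm' m c) (h s hs) using 1
      group
  · refine ⟨d, hd, fun s hs => ?_⟩
    have k : s ≠ j := fun l => jT (l ▸ hs)
    simpa only [Finset.mem_insert, k, false_or] using h s hs

theorem GP.stab (h : GP G A) (n1 : N ≤ G) (n2 : G ≤ 𝐍(N)) (cc : ∀ a ∈ A, a ∉ 𝐍(N) → a ⋆ N ≤ 𝐂(N))
    (z : N ⊓ 𝐂(N) = ⊥) (f : N ⊓ 𝐂(A ⊓ 𝐍(N)) = ⊥) : GP N (A ⊓ 𝐍(N)) := by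
  refine ⟨inf_le_right, f, eq_bot_mono h.disj (inf_le_inf n1 inf_le_left), fun D hD b Γ e => ?_⟩
  obtain ⟨S, hS, s1⟩ := exists_isComplement_left (A ⊓ 𝐍(N)) 1
  rw [isComplement_iff_existsUnique_inv_mul_mem] at hS
  have t2 : ∀ s ∈ S ∩ (A : Set X), ∀ j ∈ S ∩ (A : Set X), s⁻¹ * j ∈ 𝐍(N) → s = j := fun s hs j hj l =>
    congrArg Subtype.val ((hS j).unique (y₁ := ⟨s, hs.1⟩) (y₂ := ⟨j, hj.1⟩) ⟨A.mul_mem (A.inv_mem hs.2) hj.2, l⟩
      (by simp [one_mem]))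
  have gN : Γ ≤ 𝐍(N) := (le_sup_right.trans e.le).trans (sup_le (hD.trans (le_norm N)) inf_le_right)
  have gC : Γ ≤ 𝐍(G ⊓ 𝐂(N)) := norm_inf ((le_sup_right.trans e.le).trans
    (sup_le ((hD.trans n1).trans (le_norm G)) (inf_le_left.trans h.norm))) (norm_cent gN)
  have cN : G ⊓ 𝐂(N) ⊔ Γ ≤ 𝐍(N) := sup_le (inf_le_left.trans n2) gN
  obtain ⟨Y, hY⟩ : ∃ Y : Set X, ∀ x, x ∈ Y ↔ ∃ s ∈ S ∩ (A : Set X), s⁻¹ * x ∈ G ⊓ 𝐂(N) ⊔ Γ := ⟨_, fun _ => Iff.rfl⟩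
  have eG : ncl D A ≤ G := ncl_le (hD.trans n1) h.norm
  obtain ⟨d, hd, l⟩ := h.gl (ncl D A) eG (norm_ncl D A) (MulAction.stabilizer X Y ⊓ (ncl D A ⊔ A)) (by
    refine le_antisymm (sup_le le_sup_left inf_le_right) (sup_le le_sup_left fun a ha => ?_)
    have k : ∀ s, ∃ x, s ∈ S ∩ (A : Set X) → x ∈ D ∧ ∃ j ∈ S ∩ (A : Set X), j⁻¹ * (a * s) * x ∈ Γ := fun s => by
      by_cases hs : s ∈ S ∩ (A : Set X)
      · obtain ⟨j, hj, -⟩ := hS (a * s)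
        obtain ⟨γ, hγ, x, hx, l⟩ := (mem_sup_right_norm (supp_norm b e)).1
          ((e.ge.trans (sup_comm D Γ).le) (mem_sup_right hj))
        refine ⟨x⁻¹, fun _ => ⟨inv_mem hx, j, ⟨j.2, ?_⟩, by rwa [← l, mul_inv_cancel_right]⟩⟩
        exact A.inv_mem_iff.1 ((A.mul_mem_cancel_right (A.mul_mem ha hs.2)).1 hj.1)
      · exact ⟨1, fun l => absurd l hs⟩
    choose x hx using k
    obtain ⟨d, hd, l⟩ := shap_crt h.norm n1 cc n2 hD (fun _ hs => hs.2) t2 x fun s hs => (hx s hs).1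
    rw [show a = a * d * d⁻¹ by group]
    refine mul_mem (mem_sup_right ⟨(MulAction.mem_stabilizer_set' (Set.toFinite Y)).2 fun y hy => ?_,
      mul_mem (mem_sup_right ha) (mem_sup_left hd)⟩) (mem_sup_left (inv_mem hd))
    obtain ⟨s, hs, m⟩ := (hY y).1 hy
    obtain ⟨-, j, hj, m'⟩ := hx s hs
    refine (hY _).2 ⟨j, hj, ?_⟩
    convert mul_mem (mul_mem (mem_sup_right m') (mem_sup_left (l s hs))) m using 1
    rw [smul_eq_mul]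
    group)
  have eD : ncl D A ≤ D ⊔ G ⊓ 𝐂(N) := ncl_le_iff.2 fun a ha => by
    by_cases k : a ∈ 𝐍(N)
    · exact (conj_eq_of_norm (b ⟨ha, k⟩)).le.trans le_sup_left
    · exact le_sup_right.trans' (le_inf ((conj_mono a (hD.trans n1)).trans (conj_eq_of_norm (h.norm ha)).le)
        ((conj_mono a hD).trans (cc a ha k)))
  obtain ⟨u, hu, c, hc, rfl⟩ := (mem_sup_left_norm
    ((inf_le_right.trans (cent_anti hD)).trans (cent_le_norm D))).1 (eD hd)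
  refine ⟨u, hu, fun y hy => ?_⟩
  obtain ⟨w, hw, m⟩ := l hy.1
  have m : u * c * w * (u * c)⁻¹ = y := m
  obtain ⟨s, hs, m'⟩ := (hY _).1 ((MulAction.mem_stabilizer_set.1 hw.1 1).2
    ((hY 1).2 ⟨1, ⟨s1, one_mem A⟩, by simp [one_mem]⟩))
  rw [smul_eq_mul, mul_one] at m'
  have wN : w ∈ 𝐍(N) := by
    rw [show w = (u * c)⁻¹ * y * (u * c) by rw [← m]; group]
    exact mul_mem (mul_mem (inv_mem (n2 (eG hd))) hy.2) (n2 (eG hd))
  obtain rfl := t2 1 ⟨s1, one_mem A⟩ s hs (by simpa using mul_mem wN (inv_mem (cN m')))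
  have q : G ⊓ 𝐂(N) ⊓ (D ⊔ A ⊓ 𝐍(N)) = ⊥ := eq_bot_iff.2 fun x hx => by
    obtain ⟨p, hp, r, hr, rfl⟩ := (mem_sup_left_norm b).1 hx.2
    obtain rfl : r = 1 := mem_bot.1 (h.disj ▸ mem_inf.2 ⟨(G.mul_mem_cancel_left (n1 (hD hp))).1 hx.1.1, hr.1⟩)
    exact z ▸ mem_inf.2 ⟨by simpa using hD hp, hx.1.2⟩
  have r : u⁻¹ * y * u ∈ (G ⊓ 𝐂(N) ⊔ Γ) ⊓ (D ⊔ A ⊓ 𝐍(N)) := ⟨by
    rw [show u⁻¹ * y * u = c * (1⁻¹ * w) * c⁻¹ by rw [← m]; group]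
    exact mul_mem (mul_mem (mem_sup_left hc) m') (mem_sup_left (inv_mem hc)),
    mul_mem (mul_mem (mem_sup_left (inv_mem hu)) (mem_sup_right hy)) (mem_sup_left hu)⟩
  rw [modular_right (le_sup_right.trans e.le) gC, q, bot_sup_eq] at r
  rw [show y = u * (u⁻¹ * y * u) * u⁻¹ by group]
  exact conj_mem_conj.2 r

end Cfsg.Lib.NF
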