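import Cfsg.Agent.Lib.NF.Main
import Cfsg.Agent.Lib.NF.Shap

/-!
# A group with an operator group without fixed points that has the property of Glauberman's lemma is solvable
-/

set_option autoImplicit false
set_option linter.unusedSectionVars false

namespace Cfsg.Lib.NF

open Subgroup Cfsg.Lib Cfsg.Lib.BG Cfsg.Lib.Transfer Cfsg.Lib.Loc Cfsg.Lib.PLocal Cfsg.Lib.PU Cfsg.Lib.FH Cfsg.Lib.FQ
open Cfsg.Lib.CharDeg.Pet
open scoped commutatorElement

universe u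

variable {X : Type u} [Group X] {A G S : Subgroup X}

/-- A minimal counterexample. -/
structure McG (G A : Subgroup X) : Prop extends GP G A where
  prop : ∀ K ≤ G, ∀ B, GP K B → ¬ G ≤ K → Group.IsSolvable K
  simp : ∀ N ≤ G, G ≤ 𝐍(N) → A ≤ 𝐍(N) → N = ⊥ ∨ N = G
  nsol : ¬ Group.IsSolvable G

variable [Finite X]

namespace McG

variable (h : McG G A)
include h

theorem two_dvd : 2 ∣ Nat.card G := by_contra fun e => h.nsol (Coprime.isSolvable_of_not_two_dvd e)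

theorem conj {c : X} (hc : c ∈ G) : McG G (c ⋆ A) := by
  have n := le_norm G hc
  refine ⟨h.toGP.conj n, h.prop, fun N a b d => h.simp N a b ?_, h.nsol⟩
  rwa [← conj_eq_of_norm (b hc), ← conj_normalizer, conj_le_conj_iff] at d

/-- The normalizer of an invariant 2-subgroup is solvable. -/
theorem sol_norm {U : Subgroup X} (hU : IsPGroup 2 U) (h1 : U ≤ G) (h0 : U ≠ ⊥) (aU : A ≤ 𝐍(U)) :
    GP (G ⊓ 𝐍(U)) A ∧ Group.IsSolvable ↥(G ⊓ 𝐍(U)) := by
  haveI := Fact.mk Nat.prime_two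
  have f := h.toGP.sub inf_le_left (norm_inf h.norm (norm_norm aU))
  exact ⟨f, h.prop _ inf_le_left A f fun e =>
    h.nsol (((h.simp U h1 (e.trans inf_le_right) aU).resolve_left h0) ▸ pgroup_sol hU)⟩

theorem op {S : Subgroup G} (hS : SylIn 2 S ⊤) (aS : A ≤ 𝐍(S.map G.subtype)) : Op S (lam G A) := by
  haveI := Fact.mk Nat.prime_two
  have hf := G.subtype_injective
  refine ⟨?_, fun s hs e => ?_, fun U T hU u0 i hT => ?_, fun V g K b t => ?_⟩
  · rintro _ ⟨a, ha, rfl⟩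
    exact map_injective hf ((map_im a S).trans (conj_eq_of_norm (aS ha)))
  · refine Subtype.ext (mem_bot.1 (h.fpf ▸ mem_inf.2 ⟨s.2, BG.mem_cent.2 fun a ha => ?_⟩))
    exact mul_inv_eq_iff_eq_mul.1 (congrArg Subtype.val (e _ ⟨⟨a, h.norm ha⟩, ha, rfl⟩))
  · have p := hU.map G.subtype
    obtain ⟨f, s⟩ := h.sol_norm p (map_subtype_le U) (mt (map_eq_bot_iff_of_injective _ hf).1 u0)
      (norm_of_lam h.norm i)
    have := tf f s p ⟨le_inf (map_subtype_le U) (le_norm _), inf_le_right⟩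
      (Syl.iff.2 (sub_norm U ▸ (SylIn.map_iff hf).2 hT))
    rw [← map_le_map_iff_of_injective hf, Subgroup.map_sup, Subgroup.map_sup, map_inf _ _ _ hf, map_inf _ _ _ hf,
      sub_norm, sub_norm, sub_cent, sub_cent, map_thompsonSubgroupOf hf, map_oz hf]
    exact this.trans (sup_le_sup (sup_le_sup (inf_le_inf_right _ inf_le_left)
      (le_inf inf_le_left (inf_le_inf_right _ inf_le_left))) (le_inf inf_le_left (inf_le_inf_right _ inf_le_left)))
  · rintro _ ⟨a, ha, rfl⟩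
    have j : (𝐉 S).map G.subtype = 𝐉 (S.map G.subtype) := map_thompsonSubgroupOf hf S
    have aJ : A ≤ 𝐍((𝐉 S).map G.subtype) := j ▸ aS.trans (normalizer_le_normalizer_thompsonSubgroupOf _)
    obtain ⟨f, s⟩ := h.sol_norm ((hS.2.1.to_le (thompsonSubgroupOf_le S)).map G.subtype) (map_subtype_le _)
      (mt (map_eq_bot_iff_of_injective _ hf).1 fun e => b.nc (b.le.trans (e.le.trans bot_le))) aJ
    rw [← le_cent_map hf, map_im]
    exact c1 f (le_inf (map_subtype_le _) (le_norm _)) aJ ((bq_map hf).2 b) s ((tor_map hf).2 t)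
      (le_inf (map_subtype_le _) (map_norm _ t.nR)) ha

theorem lo {S : Subgroup G} (hS : SylIn 2 S ⊤) (s0 : S ≠ ⊥) (aS : A ≤ 𝐍(S.map G.subtype)) :
    Lo S 𝐍(ncl (𝛀 S) 𝐍(𝐉 S)) ∧ IsElementaryAbelian 2 (ncl (𝛀 S) 𝐍(𝐉 S)) ∧ ncl (𝛀 S) 𝐍(𝐉 S) ≤ S := by
  haveI := Fact.mk Nat.prime_two
  have hf := G.subtype_injective
  have s : Syl 2 (S.map G.subtype) G := Syl.iff.2 (by
    have := (SylIn.map_iff hf).2 hS
    rwa [Core.map_subtype_top] at this)
  have z0 := oz_ne_bot s.pgroup (mt (map_eq_bot_iff_of_injective _ hf).1 s0)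
  have zJ : 𝛀 (S.map G.subtype) ≤ 𝐉 (S.map G.subtype) :=
    le_J_of_cent (oz_elemAb _) (oz_le _) (le_centralizer_oz _)
  have s1 := (h.sol_norm (s.pgroup.to_le (thompsonSubgroupOf_le _)) ((thompsonSubgroupOf_le _).trans s.le)
    (ne_bot_mono z0 zJ) (aS.trans (normalizer_le_normalizer_thompsonSubgroupOf _))).2
  have s2 : Group.IsSolvable ↥(G ⊓ 𝐂(𝛀 (S.map G.subtype))) := sol_of_le (h.sol_norm (s.pgroup.to_le (oz_le _))
    ((oz_le _).trans s.le) z0 (aS.trans (normalizer_le_normalizer_oz _))).2 (inf_le_inf_left _ (cent_le_norm _))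
  have w : (ncl (𝛀 S) 𝐍(𝐉 S)).map G.subtype = ncl (𝛀 (S.map G.subtype)) (G ⊓ 𝐍(𝐉 (S.map G.subtype))) := by
    rw [PU.map_ncl, map_oz hf, sub_norm, map_thompsonSubgroupOf hf]
  obtain ⟨w1, w2, -⟩ := w_facts h.toGP s aS s1
  refine ⟨⟨hS, norm_ncl _ _, fun g hg U hU e => ?_, fun c => ⟨_, (h.conj c.2).op (hS.conj_mem (mem_top c)) ?_⟩⟩,
    (S4F.elem_map_iff hf).1 (w ▸ w1), (map_le_map_iff_of_injective hf).1 (w ▸ w2)⟩
  · obtain ⟨m, hm, e'⟩ := cz h.toGP s aS s1 s2 (g := g) (U := U.map G.subtype)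
      (by rw [← map_oz hf, ← sub_cent]; exact mem_map_of_mem _ hg) (map_mono hU)
      ((PLocal.map_conj G.subtype g U).ge.trans (map_mono e))
    rw [← w, ← sub_norm] at hm
    obtain ⟨m, hm, rfl⟩ := hm
    exact ⟨m, hm, (FQ.mem_cent_map hf).1 e'⟩
  · rw [PLocal.map_conj, ← conj_normalizer]; exact conj_mono _ aS

/-- Let `N` be a minimal normal subgroup of `G`, `B = A ⊓ 𝐍(N)`. The orbit of `t ∈ N ⊓ 𝐂(B)` generates an abelian
group and `os` gives `t ∈ 𝐂(N)`. -/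
theorem simple : IsSimpleGroup G := by
  have g1 : G ≠ ⊥ := ne_bot_of_dvd Nat.prime_two h.two_dvd
  haveI := (nontrivial_iff_ne_bot G).2 g1
  suffices ∀ M, Nml M G → M ≠ ⊥ → G ≤ M from ⟨fun K _ => (eq_or_ne K ⊥).imp_right fun e => eq_top_iff.2 fun x _ => by
    obtain ⟨y, hy, e'⟩ := this _ (Nml.of_normal G K) (mt (map_eq_bot_iff_of_injective _ G.subtype_injective).1 e) x.2
    exact Subtype.ext e' ▸ hy⟩
  intro M h1 h2
  obtain ⟨N, ⟨n0, n1, n2⟩, hm⟩ := exists_min (fun N => N ≤ M ∧ Nml N G ∧ N ≠ ⊥) ⟨le_rfl, h1, h2⟩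
  have mn : ∀ K, G ≤ 𝐍(K) → N ⊓ K ≠ ⊥ → N ≤ K := fun K a b =>
    (hm _ ⟨inf_le_left.trans n0, n1.inf_left a, b⟩ inf_le_left).trans inf_le_right
  have ns : ¬ Group.IsSolvable N := fun e => h.nsol (((h.simp _ (Fitting_le G) (Fitting_nml G).norm
    (norm_Fitting h.norm)).resolve_left (ne_bot_mono (Fitting_ne_bot e n2) n1.Fitting_le)) ▸ nil_sol (Fitting_nil G))
  have cj : ∀ a ∈ A, Nml (a ⋆ N) G := fun a ha => conj_eq_of_norm (h.norm ha) ▸ n1.conj a
  have cc : ∀ a ∈ A, a ∉ 𝐍(N) → a ⋆ N ≤ 𝐂(N) := fun a ha e => cent_symm (cent_of_norm_of_disjoint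
    (n1.le.trans (cj a ha).norm) ((cj a ha).le.trans n1.norm) (by_contra fun k => e
      (norm_of_conj_eq (eq_of_le_of_card_le (mn _ (cj a ha).norm k) (Transfer.card_conj a N).le).symm)))
  have z : N ⊓ 𝐂(N) = ⊥ := by_contra fun k => ns (abelian_sol (abelian_iff.2 (mn _ (norm_cent n1.norm) k)))
  refine le_trans (by_contra fun e => ns (h.prop N n1.le (A ⊓ 𝐍(N)) (h.toGP.stab n1.le n1.norm cc z
    (eq_bot_iff.2 fun t ht => by_contra fun t1 => ?_)) e)) n0
  have or : ∀ a ∈ A, a * t * a⁻¹ = t ∨ a * t * a⁻¹ ∈ 𝐂(N) := fun a ha => by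
    by_cases k : a ∈ 𝐍(N)
    · exact .inl (mul_inv_eq_iff_eq_mul.2 (BG.mem_cent.1 ht.2 a ⟨ha, k⟩))
    · exact .inr (cc a ha k (conj_mem_conj.2 ht.1))
  have c1 : ncl (zpowers t) A ≤ 𝐂(zpowers t) := ncl_le_iff.2 fun a ha => by
    rw [Transfer.conj_zpowers, zpowers_le]
    rcases or a ha with k | k
    · rw [k]; exact abelian_cent inferInstance (mem_zpowers t)
    · exact cent_anti (zpowers_le.2 ht.1) k
  have c2 : ncl (zpowers t) A ≤ 𝐂(ncl (zpowers t) A) :=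
    ncl_le (cent_symm c1) (norm_cent (norm_ncl _ _))
  have := os (Y := ⊥) (U := 𝐂(N)) (h.toGP.sub (ncl_le (zpowers_le.2 (n1.le ht.1)) h.norm) (norm_ncl _ _))
    ⟨bot_le, le_normalizer_of_normal⟩ le_normalizer_of_normal (comm_eq_bot_iff.2 c2).le bot_le
    (le_ncl _ _ (mem_zpowers t)) fun a ha => (or a ha).imp_left fun k => by rw [k, inv_mul_cancel]; exact one_mem _
  exact ns (abelian_sol (abelian_iff.2 (mn _ (norm_cent n1.norm) (ne_bot_of_mem ⟨ht.1, this⟩ t1))))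

/-- `W` is strongly closed in `S`, so all involutions are conjugate, and `fx` gives a fixed involution. -/
theorem false : False := by
  haveI := Fact.mk Nat.prime_two
  haveI := h.simple
  obtain ⟨S, hS, aS⟩ := h.toGP.syl 2
  obtain ⟨T, rfl⟩ := Syl.iff_sylow.1 hS
  have t0 : (T : Subgroup G) ≠ ⊥ := fun e => hS.ne_bot' h.two_dvd (by rw [e, Subgroup.map_bot])
  obtain ⟨l, w1, w2⟩ := h.lo (Syl.iff.1 (Syl.of_sylow_top T)) t0 aS
  obtain ⟨t, ht⟩ := exists_prime_orderOf_dvd_card' 2 h.two_dvd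
  have := fx (D := G) (J := G) (Y := ⊥) h.toGP le_rfl le_rfl h.norm h.norm le_normalizer_of_normal (le_norm G)
    le_normalizer_of_normal ⟨bot_le, le_normalizer_of_normal⟩ t.2 fun a ha => by
      obtain ⟨g, hg⟩ := isConj_of_closed (fun e => h.nsol ⟨⟨1, by
          simpa using (commutator_eq_bot_iff_center_eq_top _).2 (center_eq_top_iff.2 e)⟩⟩) T
        (ne_bot_mono (oz_ne_bot T.isPGroup' t0) (le_ncl _ _)) w1.1 ⟨w2, fun x hx g hg => l.closed w2 hx hg⟩
        (t := ⟨_, conj_mem_of_norm (h.norm ha) t.2⟩) ht (by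
          rw [← orderOf_coe, ← ht, ← orderOf_coe]; exact (MulAut.conj a).orderOf_eq _)
      exact ⟨g, g.2, mem_bot.2 (inv_mul_eq_one.2 (congrArg Subtype.val hg))⟩
  rw [show t = 1 from Subtype.ext (mem_bot.1 this), orderOf_one] at ht
  exact absurd ht (by decide)

end McG

theorem solvable_auxG (n : ℕ) : ∀ (X : Type u) [Group X] [Finite X] (G A : Subgroup X), Nat.card G = n → GP G A →
    Group.IsSolvable G := by
  induction n using Nat.strong_induction_on with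
  | _ n ih =>
  intro X _ _ G A hn h
  by_contra ns
  have h1 : ∀ K ≤ G, ∀ B, GP K B → ¬ G ≤ K → Group.IsSolvable K := fun K a B b c =>
    ih _ (hn ▸ lt_of_not_ge fun e => c (eq_of_le_of_card_le a e).ge) X K B rfl b
  refine McG.false ⟨h, h1, fun N a b c => ?_, ns⟩
  by_contra! e
  refine ns (copre_quo_of_le a b ▸ sol_copre (h1 N a A (h.sub a c) fun e' => e.2 (le_antisymm a e'))
    (ih _ ?_ _ _ _ rfl (h.quo ⟨a, b⟩ c)))
  rw [← hn, ← card_quo_mul ⟨a, b⟩]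
  exact lt_mul_of_one_lt_left Nat.card_pos ((one_lt_card_iff_ne_bot N).2 e.1)

theorem GP.solvable {X : Type*} [Group X] [Finite X] {N F : Subgroup X} (h : GP N F) : Group.IsSolvable N :=
  solvable_auxG _ X N F rfl h

end Cfsg.Lib.NF
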