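import Cfsg.Agent.Lib.NF.Bas

/-!
# Control of strong fusion: the block in a configuration
-/

set_option autoImplicit false
set_option linter.unusedSectionVars false

namespace Cfsg.Lib.NF

open Subgroup Cfsg.Lib.BG Cfsg.Lib.Transfer Cfsg.Lib.Loc Cfsg.Lib.PLocal Cfsg.Lib.CGT Cfsg.Lib.PU Cfsg.Lib.FQ
open scoped commutatorElement

variable {G : Type*} [Group G] [Finite G] {B H J M N S T U W : Subgroup G} {n x : G}

omit [Finite G] in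
theorem out_le (hn : n ∈ 𝐍(U)) (h : U ≤ x ⋆ S) : U ≤ (n * x) ⋆ S := by
  rw [← conj_conj, ← conj_eq_of_norm hn]
  exact conj_mono n h

omit [Finite G] in
theorem out_ch {Q C : Subgroup G} (h : Ch B Q C) (hQ : Q ≤ B) (hC : C ≤ B) {α : MulAut G} (e : im α B = B)
    (i : im α Q = Q) : im α C = C := by
  have key : ∀ D ≤ B, ((D.subgroupOf B).map
      (((α.subgroupMap B).trans (MulEquiv.subgroupCongr e) : B ≃* B) : B →* B)).map B.subtype = im α D := by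
    intro D hD
    conv_rhs => rw [← map_subgroupOf_eq_of_le hD]
    rw [Subgroup.map_map, im, Subgroup.map_map]
    rfl
  have := h ((α.subgroupMap B).trans (MulEquiv.subgroupCongr e)) (map_injective B.subtype_injective (by
    rw [key Q hQ, i, map_subgroupOf_eq_of_le hQ]))
  rw [← key C hC, this, map_subgroupOf_eq_of_le hC]

/-- Copy of `FQ.exists_pMin`; the element `n⁻¹ g` lies in `H`. -/
theorem exists_pMin (hT : SylIn 2 T H) (h1 : T ≤ N) (h2 : H ⊓ 𝐍(T) ≤ N) (h3 : ¬ H ≤ N) :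
    ∃ P ≤ H, ∃ M, PMin 2 T M P ∧ P ⊓ N ≤ M := by
  obtain ⟨P, ⟨a, M, hP⟩, b⟩ : ∃ P ∈ {P | P ≤ H ∧ ∃ M, PMin 2 T M P}, ¬ P ≤ N := by
    by_contra! e
    have e1 := (pel_le_sup_pMin hT.2.1 H hT.1 hT.2.2).trans (sup_le h1 (sSup_le e))
    refine h3 fun g hg => ?_
    obtain ⟨n, hn, e2⟩ := frattini_argument (le_pel hT.1 hT.2.1) hT.2.1
      (not_dvd_relIndex_of_le_normalizer hT.2.2 (pel_le 2 H) (le_normalizer_pel H)) (le_normalizer_pel H) hg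
    exact (mul_mem_cancel_left (e1 hn)).1 (h2 ⟨mul_mem (pel_le 2 H hn) hg, e2⟩)
  exact ⟨P, a, M, hP, hP.uniq _ (le_inf hP.leP h1) (inf_lt_left.2 b)⟩

/-- `down` for `U ⊔ W ≤ T ≤ x ⋆ S`, which is normalized by `n`. -/
theorem Lo.mem_evN (l : Lo S M) (k : Cf S M x W T) (h1 : x ⋆ 𝛀 S ≤ U) (h2 : U ≤ T) (hn : n ∈ 𝐍(W) ⊓ 𝐍(U))
    (e : Ev M U x (n * x)) : n ∈ evN M W x := by
  exact ⟨hn.1, l.down e h1 (k.W_le.trans k.le) (out_le hn.1 (k.W_le.trans k.le))⟩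

/-- `P`, `N` from `exists_pMin` with the subgroup `evN M W x` (`T ≤ x ⋆ M`; for `n ∈ 𝐍(W) ⊓ 𝐍(T)` use `g1` for `T`).
`W ≤ 𝐐 P`, so `P ⊓ 𝐂(𝐐 P) ≤ N` and `Z = x ⋆ 𝛀 S ≤ T ⊓ 𝐂(𝐐 P) ≤ 𝐐 P` (`inf_cent_le`), `Z ≤ 𝐘 P ⊓ 𝐂(T)`.
`Pre T N P I` with `I Q := ∀ α, im α B = B → im α Q = Q`: `cz` by `mem_evN` with `U = Z`; `nj` by `g1` for `J ⊔ W`;
`i1` by restricting `α` to `B`; `i2` by `Xt.i2`, `ev_one`, `Ev.shift`, `mem_evN` (`Z ≤ B ⊓ 𝐂(Q) ≤ Q`).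
Then `post`, `Bq.thompson`, `Tor.thompson`; `hg` by `ev_one'`, `Ev.shift`, `mem_evN` (`Z ≤ J ⊓ 𝐂(J)`). -/
theorem Xt.out (h : Xt S M J B) (k : Cf S M x W T) (hB : B ≤ T) : ∃ P N V g K, Ot M J B W T P N V g K := by
  have l := h.toLo
  have b := h.bb x W T k hB
  have jT := h.JB.trans hB
  have j := h.jj x W T k jT
  obtain ⟨P, a, N, pm, nz⟩ := exists_pMin (N := evN M W x) k.syl
    (fun t ht => ⟨k.syl.1 ht, ev_of_mem (by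
      rw [← mul_assoc]; exact l.nS (le_norm S (mem_conj.1 (k.le ht))))⟩)
    (fun n hn => ⟨hn.1, (h.g1 T x (n * x) jT k.le (out_le hn.2 k.le)).anti k.W_le⟩)
    (fun e => let ⟨n, hn, c⟩ := k.nle; c (e hn).2)
  have w : W ≤ 𝐐 P := le_core (k.W_le.trans pm.leP) a k.pg
  have qT : 𝐐 P ≤ T := core_le_of_not_dvd pm.syl
  have z0 := l.Z_le k.syl k.pg k.le
  rw [j] at z0
  have zJ : x ⋆ 𝛀 S ≤ J := z0.trans inf_le_left
  have zT : x ⋆ 𝛀 S ≤ 𝐂(T) := z0.trans inf_le_right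
  have z1 : x ⋆ 𝛀 S ≤ 𝐐 P := (le_inf (zJ.trans jT) (zT.trans (cent_anti qT))).trans
    (inf_cent_le pm fun p hp => nz ⟨hp.1, a hp.1, ev_of_cent (cent_anti w hp.2) x⟩)
  have z : x ⋆ 𝛀 S ≤ 𝐘 P ⊓ 𝐂(T) := le_inf (le_oz (el_conj_oz x S) z1 (zT.trans (cent_anti qT))) zT
  have cz : P ⊓ 𝐂(𝐘 P ⊓ 𝐂(T)) ≤ N := fun p hp => nz ⟨hp.1, l.mem_evN k le_rfl (zJ.trans jT)
    ⟨a hp.1, cent_le_norm _ (cent_anti z hp.2)⟩ (ev_of_cent (cent_anti z hp.2) x)⟩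
  obtain ⟨V, g, K, q⟩ := post (T := T) (M := N) (P := P) (I := fun Q => ∀ α : MulAut G, im α B = B → im α Q = Q)
    ⟨pm, cz, fun p hp => nz ⟨hp.1, l.mem_evN k zJ jT ⟨a hp.1, j ▸ hp.2⟩
        (h.g1 J x (p * x) le_rfl (jT.trans k.le) (out_le (j ▸ hp.2) (jT.trans k.le)))⟩,
      fun α _ => Subgroup.map_bot _,
      fun Q C c d e f α i => out_ch (b ▸ f) (b ▸ d.trans e) (b ▸ e) i (c α i),
      fun Q c d e p hp => by
        rw [b] at c e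
        refine nz ⟨hp.1, l.mem_evN k ((le_inf (zJ.trans h.JB) (zT.trans (cent_anti (c.trans hB)))).trans e)
          (c.trans hB) ⟨a hp.1, hp.2⟩ (((h.ev_one c (hB.trans k.le)).shift hp.2).1 ?_)⟩
        rw [mul_one]
        exact h.i2 c d hp.2⟩
  have r := q.bq
  have t := q.tor
  rw [b] at r t
  have nc : ¬ 𝐉 B ≤ 𝐂(V) := h.JB'.symm ▸ j ▸ q.nc
  refine ⟨P, N, V, g, K, pm, a, cz, q.gP, q.gM, h.JB' ▸ r.thompson nc, r.nV, q.le, q.cq, fun U u1 u2 u3 e => ?_,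
    h.JB' ▸ t.thompson r.toTq nc⟩
  refine q.gM (nz ⟨q.gP, l.mem_evN k ((le_inf zJ (zT.trans (cent_anti jT))).trans u2) (u1.trans jT) ⟨a q.gP, u3⟩
    (((h.ev_one' u1 (jT.trans k.le)).shift u3).1 ?_)⟩)
  rwa [mul_one]

end Cfsg.Lib.NF
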