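import Cfsg.Agent.Lib.FQ.Out

/-!
# The torus of a block: the natural module
-/

set_option autoImplicit false
set_option linter.unusedSectionVars false

namespace Cfsg.Lib.NF

open Subgroup Cfsg.Lib.BG Cfsg.Lib.Transfer Cfsg.Lib.Loc Cfsg.Lib.PLocal Cfsg.Lib.CGT Cfsg.Lib.PU Cfsg.Lib.FQ
open scoped commutatorElement

universe u

variable {G : Type u} [Group G] {B K L M P R T V : Subgroup G} {I : Subgroup G → Prop} {g : G}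

variable [Finite G]

section ff

open Cfsg.Lib.CS Cfsg.Lib.GC Cfsg.Lib.Root
open scoped MatrixGroups

/-- The diagonal torus. -/
def dH (F : Type) [Field F] : Fˣ →* SL(2, F) := MonoidHom.mk' (fun a => dS a.ne_zero) fun a b => by
  refine sl2_ext ?_ ?_ ?_ ?_ <;> rw [Matrix.SpecialLinearGroup.coe_mul] <;> simp [dS, mul_comm]

theorem exists_tor {F : Type} [Field F] [Finite F] [CharP F 2] {A D Q : Subgroup G}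
    {s : Sec SL(2, F) (Fin 2 → F) L A D} (k : Hf B Q s) (hB : SylIn 2 B L) (a : Fˣ) :
    ∃ x ∈ 𝐑 L ⊓ 𝐍(B) ⊓ s.pre (dH F).range, s.ρ x = dS a.ne_zero := by
  cases nonempty_fintype F
  obtain ⟨l, hl, e⟩ := k.exists_L (dH F a)
  have b := hB.of_le ((s.im_le_iff k.le).1 k.up.le) (s.pre_le _)
  obtain ⟨u, hu, hn⟩ := frattini_argument b.1 b.2.1 b.2.2 (s.norm_pre (s.pre_le (dH F).range) ((s.im_pre_le _).trans
    (le_norm_iff.2 (by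
      rintro _ ⟨c, rfl⟩ _ hu
      obtain ⟨t, rfl⟩ := mem_upper_iff.1 hu
      rw [conj_xU rfl]
      exact xU_mem _)))) (Sec.mem_pre.2 ⟨hl, a, e.symm⟩)
  obtain ⟨y, hy, hy', e1⟩ := Sec.mem_im.1 (k.up.ge (Sec.mem_pre.1 hu).2)
  have m := mul_mem (inv_mem hy') (mul_mem (s.pre_le _ hu) hl)
  have e2 : s.ρ (y⁻¹ * (u * l)) = dH F a := by
    rw [s.rho_inv_mul hy' (mul_mem (s.pre_le _ hu) hl), s.mul _ (s.pre_le _ hu) _ hl, e1, e, inv_mul_cancel_left]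
  obtain ⟨n, h2⟩ := exists_pow_mem_res (p := 2) m
  obtain ⟨j, hj⟩ := exists_pow_eq_self_of_coprime ((Nat.coprime_two_left.2 (Odd.of_dvd_nat (by
    rw [Nat.card_units, Nat.card_eq_fintype_card]
    exact Nat.Even.sub_odd Fintype.card_pos (Nat.even_iff.2 (FiniteField.even_card_of_char_two (ringChar.eq F 2)))
      odd_one) (orderOf_dvd_natCard a))).pow_left n)
  refine ⟨_, ⟨⟨pow_mem h2 j, pow_mem (pow_mem (mul_mem (inv_mem (le_norm B hy)) hn) _) j⟩,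
    pow_mem (pow_mem (Sec.mem_pre.2 ⟨m, MonoidHom.mem_range.2 ⟨a, e2.symm⟩⟩) _) j⟩, ?_⟩
  rw [s.rho_pow (pow_mem m _), s.rho_pow m, e2, ← map_pow, ← map_pow, hj]
  rfl

/-- The fields of `Tor B (𝐖 L) K`. -/
theorem tor_of_ff' (h : FF 2 B L) (hp : ⁅𝐐 L, 𝐑 L⁆ ≤ 𝐖 L) : ∃ K : Subgroup G, K ≤ 𝐍(B) ∧ K ≤ 𝐍(𝐖 L) ∧
    (∀ x ∈ B ⊓ 𝐂(𝐖 L), ∀ k ∈ K, ⁅x, k⁆ ∈ 𝐖 L) ∧ ⁅K, K⁆ ≤ 𝐂(𝐖 L) ∧
    (∀ v ∈ 𝐖 L, ∀ w ∈ 𝐖 L, v ∉ 𝐂(B) → w ∉ 𝐂(B) → ∃ k ∈ K, (k * v * k⁻¹)⁻¹ * w ∈ 𝐂(B)) ∧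
    (∀ s ∈ B, ∀ t ∈ B, s ∉ 𝐂(𝐖 L) → t ∉ 𝐂(𝐖 L) → ∃ k ∈ K, (k * s * k⁻¹)⁻¹ * t ∈ 𝐂(𝐖 L)) ∧
    (∀ y ∈ ⁅𝐖 L, B⁆, ∀ z ∈ ⁅𝐖 L, B⁆, y ∉ 𝐂(K) → z ∉ 𝐂(K) → ∃ k ∈ K, (k * y * k⁻¹)⁻¹ * z ∈ 𝐂(K)) ∧
    (𝐂(𝐖 L).relIndex B = 2 ∨ ∃ k ∈ K, ∃ y ∈ ⁅𝐖 L, B⁆, ⁅y, k⁆ ∉ 𝐂(K)) := by
  obtain ⟨F, _, _, _, s, k⟩ := h.hf
  have ex : ∀ {a : F} (ha : a ≠ 0), ∃ x ∈ 𝐑 L ⊓ 𝐍(B) ⊓ s.pre (dH F).range, s.ρ x = dS ha := fun ha =>
    exists_tor k h.syl (Units.mk0 _ ha)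
  have kL : 𝐑 L ⊓ 𝐍(B) ⊓ s.pre (dH F).range ≤ L := inf_le_right.trans (s.pre_le _)
  have wy := h.W_le_Y
  have rc : ⁅𝐖 L, B⁆ ≤ 𝐘 L ⊓ 𝐂(B) := by
    rw [← h.R_eq, ← h.W_inf]
    exact inf_le_inf_right _ wy
  have ps : ∀ {a : F} {ha : a ≠ 0} {x v w : G}, x ∈ L → s.ρ x = dS ha → v ∈ 𝐘 L → w ∈ 𝐘 L →
      s.ψ ((x * v * x⁻¹)⁻¹ * w) = ![s.ψ w 0 - a * s.ψ v 0, s.ψ w 1 - a⁻¹ * s.ψ v 1] := fun hx e hv hw => by
    rw [s.add _ (inv_mem (s.conj_mem hx hv)) _ hw, s.psi_inv (s.conj_mem hx hv), s.conj _ hx _ hv, e, sl_smul, dS_mulVec]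
    exact vec_ext (neg_add_eq_sub _ _) (neg_add_eq_sub _ _)
  refine ⟨𝐑 L ⊓ 𝐍(B) ⊓ s.pre (dH F).range, inf_le_left.trans inf_le_right, kL.trans ((le_norm L).trans h.nW),
    fun x hx y hy => hp (commutator_mem_commutator (h.inf_cent_W.le hx) hy.1.1),
    commutator_le.2 fun x hx y hy => cent_anti wy (h.ker' k (Sec.mem_K.2 ⟨der_le L (commutator_mem_commutator (kL hx)
      (kL hy)), ?_⟩)), fun v hv w hw v1 w1 => ?_, fun v hv w hw v1 w1 => ?_, fun v hv w hw v1 w1 => ?_, ?_⟩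
  · obtain ⟨a, ha⟩ := (Sec.mem_pre.1 hx.2).2
    obtain ⟨b, hb⟩ := (Sec.mem_pre.1 hy.2).2
    rw [s.rho_comm (kL hx) (kL hy), ← ha, ← hb, ← map_commutatorElement,
      commutatorElement_eq_one_iff_mul_comm.2 (mul_comm a b), map_one]
  · rw [k.mem_C (wy hv)] at v1
    rw [k.mem_C (wy hw)] at w1
    obtain ⟨x, hx, e⟩ := ex (div_ne_zero v1 w1)
    refine ⟨x, hx, k.line _ (mul_mem (inv_mem (s.conj_mem (kL hx) (wy hv))) (wy hw)) ?_⟩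
    rw [ps (kL hx) e (wy hv) (wy hw), inv_div, div_mul_cancel₀ _ v1, sub_self]
    rfl
  · have v2 := mt (fun e => (h.inf_cent_W.ge ((k.mem_Q_iff hv).2 e)).2) v1
    have w2 := mt (fun e => (h.inf_cent_W.ge ((k.mem_Q_iff hw).2 e)).2) w1
    cases nonempty_fintype F
    obtain ⟨a, ha⟩ := FiniteField.isSquare_of_char_two (ringChar.eq F 2) (s.ρ w 0 1 / s.ρ v 0 1)
    obtain ⟨x, hx, e⟩ := ex (a := a) fun e => div_ne_zero w2 v2 (by rw [ha, e, mul_zero])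
    have m := conj_mem_of_norm hx.1.2 hv
    refine ⟨x, hx, (h.inf_cent_W.ge (k.ker _ (mul_mem (inv_mem m) hw) ?_)).2⟩
    rw [s.rho_inv_mul (k.le m) (k.le hw), s.rho_conj (kL hx) (k.le hv), k.rho_B hv, e, conj_xU rfl, inv_mul_eq_one]
    exact (congrArg xU ((congrArg (· * _) ((sq a).trans ha.symm)).trans (div_mul_cancel₀ _ v2))).trans (k.rho_B hw).symm
  · have v2 := mt (fun e => cent_anti kL ((k.mem_D (rc hv)).2 e).2) v1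
    have w2 := mt (fun e => cent_anti kL ((k.mem_D (rc hw)).2 e).2) w1
    obtain ⟨x, hx, e⟩ := ex (div_ne_zero w2 v2)
    refine ⟨x, hx, cent_anti kL ((s.ker _ (mul_mem (inv_mem (s.conj_mem (kL hx) (rc hv).1)) (rc hw).1)).1 ?_).2⟩
    rw [ps (kL hx) e (rc hv).1 (rc hw).1, div_mul_cancel₀ _ v2, sub_self, (k.mem_C (rc hv).1).1 (rc hv).2,
      (k.mem_C (rc hw).1).1 (rc hw).2, mul_zero, sub_self]
    exact vec_ext rfl rfl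
  · rw [← inf_relIndex_left, h.inf_cent_W, k.idxQ]
    refine or_iff_not_imp_left.2 fun e2 => ?_
    obtain ⟨a, a0, a1⟩ : ∃ a : F, a ≠ 0 ∧ a ≠ 1 := by
      by_contra! c
      exact e2 (Nat.card_eq_two_iff.2 ⟨0, 1, zero_ne_one, Set.eq_univ_of_forall fun a => or_iff_not_imp_left.2 (c a)⟩)
    obtain ⟨x, hx, e⟩ := ex a0
    obtain ⟨y, hy, e1⟩ := s.exists_of_le wy h.Y_le_sup ![1, 0]
    refine ⟨x, hx, y, h.R_eq ▸ h.W_inf.le ⟨hy, k.line _ (wy hy) (by rw [e1]; rfl)⟩, fun c => ?_⟩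
    have m : ⁅y, x⁆ ∈ 𝐘 L := commutatorElement_inv x y ▸ inv_mem (s.comm_mem (kL hx) (wy hy))
    have e3 : s.ψ ⁅y, x⁆ 0 = 1 - a := by
      rw [← commutatorElement_inv, s.psi_inv (s.comm_mem (kL hx) (wy hy)), s.psi_comm (kL hx) (wy hy), e, e1, sl_smul,
        dS_mulVec]
      simp
    have e4 := congrFun (s.conj _ (kL hx) _ m) 0
    rw [BG.mem_cent.1 c x hx, mul_inv_cancel_right, e, sl_smul, dS_mulVec] at e4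
    exact a1 (mul_right_cancel₀ (e3 ▸ sub_ne_zero.2 a1.symm) (e4.symm.trans (one_mul _).symm))

end ff

end Cfsg.Lib.NF
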